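import Mathlib

/-!
Three twenty-fifth roots of unity have a common power with one of them within sixty degrees of
the other two.
-/

set_option autoImplicit false
set_option maxRecDepth 100000
set_option maxHeartbeats 2000000

namespace H44.SmallPrime

/-- A small residue. -/
def smallRes (r : Fin 25) : Bool := decide (r.val ≤ 4) || decide (21 ≤ r.val)

/-- One of the three points is in the middle. -/
def middle (a b : Fin 25) : Bool :=
  (smallRes a && smallRes b) || (smallRes a && smallRes (b - a)) || (smallRes b && smallRes (a - b))

theorem comb_table : ∀ u v : Fin 25, (u.val % 5 ≠ 0 ∨ v.val % 5 ≠ 0) →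
    ∃ k : Fin 25, k.val % 5 ≠ 0 ∧ middle (k * u) (k * v) = true := by
  decide

end H44.SmallPrime
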