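import Cfsg.Agent.H44.SmallPrime.Arc
import Cfsg.Agent.H28.SmallDeg.RepTools
import Cfsg.Agent.H24.CharBasic

/-!
Two elements of order five with the same nontrivial determinant generate an abelian plane group
when no non-trivial element has all eigenvalues within sixty degrees of one.
-/

set_option autoImplicit false
set_option linter.unusedSectionVars false
set_option linter.style.haveILetI false

namespace H44.SmallPrime

open Module Cfsg H28.SmallDeg
open scoped Pointwise

universe u

theorem eq_of_two_modEq : ∀ n ≤ 3, ∀ l ≤ 3, 2 ^ n % 5 = 2 ^ l % 5 → n = l := by decide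

theorem eq_of_three_modEq : ∀ n ≤ 1, ∀ l ≤ 1, 3 ^ n % 5 = 3 ^ l % 5 → n = l := by decide

variable {M : Type u} [Group M] [Finite M] {W : Type} [AddCommGroup W] [Module ℂ W]
  [FiniteDimensional ℂ W]

/-- No non-trivial element has all its eigenvalues within sixty degrees of one. -/
def NoClose (π : Representation ℂ M W) : Prop :=
  ∀ m : M, (∀ (c : ℂ) (w : W), w ≠ 0 → π m w = c • w → ‖c - 1‖ < 1) → m = 1

variable {π : Representation ℂ M W} (hf : ∀ m, π m = 1 → m = 1) (h2 : finrank ℂ W = 2)
  (hno : NoClose π)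

include h2 in
theorem eigen_pair (m : M) : ∃ (b : Basis (Fin 2) ℂ W) (μ : Fin 2 → ℂ),
    ∀ i, π m (b i) = μ i • b i ∧ μ i ^ orderOf m = 1 := by
  obtain ⟨b, μ, hb⟩ := H12.exists_eigenbasis (orderOf_pos m).ne' (H12.rep_pow_orderOf π m)
  refine ⟨b.reindex (finCongr h2), μ ∘ (finCongr h2).symm, fun i => ?_⟩
  simpa using hb ((finCongr h2).symm i)

include hf h2 in
/-- An element of determinant one. -/
theorem special (m : M) (hm : LinearMap.det (π m) = 1) :
    ∃ (b : Basis (Fin 2) ℂ W) (a : ℂ), π m (b 0) = a • b 0 ∧ π m (b 1) = a⁻¹ • b 1 ∧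
      IsPrimitiveRoot a (orderOf m) ∧ π.character m = a + a⁻¹ := by
  obtain ⟨b, μ, hb⟩ := eigen_pair h2 m
  have hb' : ∀ i, π m (b i) = μ i • b i := fun i => (hb i).1
  have hd := det_of_eigen b (π m) μ hb'
  rw [hm, Fin.prod_univ_two] at hd
  have h1 : μ 1 = (μ 0)⁻¹ := eq_inv_of_mul_eq_one_right hd.symm
  refine ⟨b, μ 0, hb' 0, h1 ▸ hb' 1, ⟨(hb 0).2, fun l hl => orderOf_dvd_of_pow_eq_one (hf _ ?_)⟩, ?_⟩
  · refine b.ext fun i => ?_
    have hk : ∀ k : ℕ, π (m ^ k) (b i) = μ i ^ k • b i := fun k => by
      induction k with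
      | zero => simp
      | succ k ih =>
        rw [pow_succ, map_mul, Module.End.mul_apply, hb', map_smul, ih, smul_smul, ← pow_succ']
    rw [hk, Module.End.one_apply]
    fin_cases i
    · simp [hl]
    · simp [h1, hl]
  · rw [← h1, ← Fin.sum_univ_two]
    exact trace_of_eigen b (π m) μ hb'

include hf h2 hno in
theorem order_le_six (m : M) (hm : LinearMap.det (π m) = 1) : orderOf m ≤ 6 := by
  by_contra h
  push Not at h
  obtain ⟨b, a, ha0, ha1, hprim, -⟩ := special hf h2 m hm
  haveI : NeZero (orderOf m) := ⟨(orderOf_pos m).ne'⟩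
  obtain ⟨j, -, hj⟩ := hprim.eq_pow_of_pow_eq_one
    (Complex.isPrimitiveRoot_exp (orderOf m) (orderOf_pos m).ne').pow_eq_one
  set e := Complex.exp (2 * Real.pi * Complex.I / (orderOf m : ℕ)) with he
  have hpow : ∀ (i : Fin 2) (c : ℂ), π m (b i) = c • b i → π (m ^ j) (b i) = c ^ j • b i := by
    intro i c hc
    clear hj
    induction j with
    | zero => simp
    | succ k ih =>
      rw [pow_succ, map_mul, Module.End.mul_apply, hc, map_smul, ih, smul_smul, ← pow_succ']
  have h0 : π (m ^ j) (b 0) = e • b 0 := by rw [hpow 0 a ha0, hj]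
  have h1 : π (m ^ j) (b 1) = e⁻¹ • b 1 := by rw [hpow 1 _ ha1, inv_pow, hj]
  have hone : m ^ j = 1 := by
    refine hno _ fun c w hw hc => ?_
    obtain ⟨i, rfl⟩ := eigen_mem b (π (m ^ j)) ![e, e⁻¹]
      (fun i => by fin_cases i; exacts [h0, h1]) hw hc
    fin_cases i
    · simpa [he] using rootExp_pow_near (orderOf_pos m) (d := 1) (by simp; omega)
    · simpa [he] using rootExp_pow_near (orderOf_pos m) (d := -1) (by simp; omega)
  rw [hone, map_one, Module.End.one_apply] at h0
  have he1 : e = 1 := by
    refine (smul_left_injective ℂ (b.ne_zero 0) ?_).symm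
    simpa using h0
  exact (Complex.isPrimitiveRoot_exp (orderOf m) (orderOf_pos m).ne').ne_one (by omega) he1

include hf h2 in
theorem neg_of_involution {m : M} (hm : LinearMap.det (π m) = 1) (ho : orderOf m = 2) :
    π m = (-1 : ℂ) • 1 := by
  obtain ⟨b, a, ha0, ha1, hprim, -⟩ := special hf h2 m hm
  rw [ho] at hprim
  rw [hprim.eq_neg_one_of_two_right] at ha0 ha1
  refine b.ext fun i => ?_
  fin_cases i
  · simpa using ha0
  · simpa [inv_neg] using ha1

include hf h2 in
theorem card_three {R : Subgroup M} (hR : ∀ r ∈ R, LinearMap.det (π r) = 1)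
    (ho : ∀ r ∈ R, r ≠ 1 → orderOf r = 3) : Nat.card R ≤ 3 := by
  classical
  letI : Fintype R := Fintype.ofFinite R
  set σ : Representation ℂ R W := π.comp R.subtype
  have h := sum_character σ
  have hval : ∀ r : R, σ.character r =
      if r = 1 then 2 else -1 := by
    intro r
    show π.character (r : M) = _
    split_ifs with hr
    · subst hr
      rw [OneMemClass.coe_one, Representation.char_one, h2]
      norm_num
    · obtain ⟨b, a, -, -, hprim, hχ⟩ := special hf h2 (r : M) (hR r r.2)
      rw [ho r r.2 (fun h => hr (Subtype.ext h))] at hprim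
      have h3 := hprim.geom_sum_eq_zero (by norm_num)
      simp [Finset.sum_range_succ] at h3
      have ha0 : a ≠ 0 := hprim.ne_zero (by norm_num)
      rw [hχ]
      field_simp
      linear_combination h3
  rw [Finset.sum_congr rfl fun r _ => hval r, Finset.sum_ite, Finset.sum_const, Finset.sum_const,
    Finset.filter_eq', if_pos (Finset.mem_univ _), Finset.card_singleton, Finset.filter_ne',
    Finset.card_erase_of_mem (Finset.mem_univ _), Finset.card_univ, ← Nat.card_eq_fintype_card,
    nsmul_eq_mul, nsmul_eq_mul, Nat.cast_sub Nat.card_pos] at h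
  have h' : (Nat.card R : ℂ) *
      ((finrank ℂ σ.invariants + 1 : ℕ) : ℂ) = (3 : ℕ) := by
    push_cast at h ⊢
    linear_combination -h
  have h'' : Nat.card R * (finrank ℂ σ.invariants + 1) = 3 := by
    exact_mod_cast h'
  calc Nat.card R ≤ Nat.card R * _ := Nat.le_mul_of_pos_right _ (Nat.succ_pos _)
    _ = 3 := h''

include hf h2 in
theorem card_two {R : Subgroup M} (hR : ∀ r ∈ R, LinearMap.det (π r) = 1)
    (ho : ∀ r ∈ R, orderOf r = 1 ∨ orderOf r = 2 ∨ orderOf r = 4) : Nat.card R ≤ 8 := by
  classical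
  letI : Fintype R := Fintype.ofFinite R
  set σ : Representation ℂ R W := π.comp R.subtype
  set S := Finset.univ.filter fun r : R => orderOf (r : M) ≤ 2 with hS
  have hScard : S.card ≤ 2 := by
    refine (Finset.card_le_card (t := insert 1 (S.filter fun r => r ≠ 1)) fun r hr => by
      by_cases h : r = 1 <;> simp [h, hr]).trans ?_
    refine (Finset.card_insert_le _ _).trans (Nat.succ_le_succ (Finset.card_le_one.2 ?_))
    intro a ha b hb
    simp only [hS, Finset.mem_filter, Finset.mem_univ, true_and] at ha hb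
    have ha2 : orderOf (a : M) = 2 := by
      have := orderOf_pos (a : M)
      have : orderOf (a : M) ≠ 1 := fun h => ha.2 (Subtype.ext (orderOf_eq_one_iff.1 h))
      omega
    have hb2 : orderOf (b : M) = 2 := by
      have := orderOf_pos (b : M)
      have : orderOf (b : M) ≠ 1 := fun h => hb.2 (Subtype.ext (orderOf_eq_one_iff.1 h))
      omega
    exact Subtype.ext (eq_one_of_eq hf ((neg_of_involution hf h2 (hR _ a.2) ha2).trans
      (neg_of_involution hf h2 (hR _ b.2) hb2).symm))
  have hval : ∀ r : R, (σ.linHom σ).character r = if r ∈ S then 4 else 0 := by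
    intro r
    rw [Representation.char_linHom]
    show π.character ((r : M)⁻¹) * π.character (r : M) = _
    by_cases hr : r ∈ S
    · rw [if_pos hr]
      simp only [hS, Finset.mem_filter, Finset.mem_univ, true_and] at hr
      rcases eq_or_ne (r : M) 1 with h1 | h1
      · rw [h1, inv_one, Representation.char_one, h2]
        norm_num
      · have ho2 : orderOf (r : M) = 2 := by
          have := orderOf_pos (r : M)
          have : orderOf (r : M) ≠ 1 := fun h => h1 (orderOf_eq_one_iff.1 h)
          omega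
        obtain ⟨b, a, -, -, hprim, hχ⟩ := special hf h2 (r : M) (hR r r.2)
        rw [ho2] at hprim
        rw [inv_eq_of_mul_eq_one_right (show (r : M) * r = 1 by
          rw [← pow_two, ← ho2, pow_orderOf_eq_one]), hχ, hprim.eq_neg_one_of_two_right]
        norm_num
    · rw [if_neg hr]
      simp only [hS, Finset.mem_filter, Finset.mem_univ, true_and, not_le] at hr
      have ho4 : orderOf (r : M) = 4 := by
        rcases ho r r.2 with h | h | h <;> omega
      obtain ⟨b, a, -, -, hprim, hχ⟩ := special hf h2 (r : M) (hR r r.2)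
      rw [ho4] at hprim
      have ha : a * a = -1 := by
        rw [← pow_two]
        exact (hprim.pow (by norm_num) (show 4 = 2 * 2 by norm_num)).eq_neg_one_of_two_right
      have ha0 : a ≠ 0 := hprim.ne_zero (by norm_num)
      rw [hχ, show a + a⁻¹ = 0 by field_simp; linear_combination ha, mul_zero]
  have h := sum_character (σ.linHom σ)
  rw [Finset.sum_congr rfl fun r _ => hval r, Finset.sum_ite_mem, Finset.univ_inter,
    Finset.sum_const, nsmul_eq_mul] at h
  have hinv : 1 ≤ finrank ℂ (σ.linHom σ).invariants := by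
    haveI : Nontrivial W := (Module.finrank_pos_iff (R := ℂ)).1 (by omega)
    refine Submodule.one_le_finrank_iff.2 fun hbot => ?_
    have hid : (LinearMap.id : W →ₗ[ℂ] W) ∈ (σ.linHom σ).invariants := by
      intro g
      refine LinearMap.ext fun w => ?_
      rw [Representation.linHom_apply, LinearMap.id_comp]
      show σ g (σ g⁻¹ w) = w
      rw [← Module.End.mul_apply, ← map_mul, mul_inv_cancel, map_one, Module.End.one_apply]
    rw [hbot, Submodule.mem_bot] at hid
    obtain ⟨w, hw⟩ := exists_ne (0 : W)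
    exact hw (congrArg (fun T : W →ₗ[ℂ] W => T w) hid)
  have h' : S.card * 4 = Nat.card R * finrank ℂ (σ.linHom σ).invariants := by exact_mod_cast h
  calc Nat.card R ≤ Nat.card R * finrank ℂ (σ.linHom σ).invariants :=
        Nat.le_mul_of_pos_right _ hinv
    _ = S.card * 4 := h'.symm
    _ ≤ 2 * 4 := Nat.mul_le_mul_right 4 hScard

include hf h2 hno in
/-- **The plane lemma.** -/
theorem plane_commute {x y : M} (hgen : Subgroup.closure ({x, y} : Set M) = ⊤) (hx : x ^ 5 = 1)
    (hy : y ^ 5 = 1) (hdet : LinearMap.det (π x) = LinearMap.det (π y))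
    (hd1 : LinearMap.det (π x) ≠ 1) : x * y = y * x := by
  classical
  by_contra hxy
  haveI : Nontrivial W := (Module.finrank_pos_iff (R := ℂ)).1 (by omega)
  haveI : Fact (Nat.Prime 5) := ⟨by norm_num⟩
  set D : M →* ℂ := (LinearMap.det : Module.End ℂ W →* ℂ).comp π with hD
  have hDdef : ∀ m, D m = LinearMap.det (π m) := fun _ => rfl
  have hD5 : ∀ m, D m ^ 5 = 1 := by
    intro m
    have hm : m ∈ Subgroup.closure ({x, y} : Set M) := hgen ▸ Subgroup.mem_top m
    induction hm using Subgroup.closure_induction with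
    | mem z hz =>
      rcases hz with rfl | hz
      · rw [← map_pow, hx, map_one]
      · rw [Set.mem_singleton_iff] at hz
        rw [hz, ← map_pow, hy, map_one]
    | one => rw [map_one, one_pow]
    | mul a b _ _ ha hb => rw [map_mul, mul_pow, ha, hb, one_mul]
    | inv a _ ha =>
      have h1 : D a⁻¹ * D a = 1 := by rw [← map_mul, inv_mul_cancel, map_one]
      rw [eq_inv_of_mul_eq_one_left h1, inv_pow, ha, inv_one]
  let K : Subgroup M :=
    { carrier := {m | D m = 1}
      mul_mem' := fun {a b} (ha : D a = 1) (hb : D b = 1) => show D (a * b) = 1 by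
        rw [map_mul, ha, hb, one_mul]
      one_mem' := map_one D
      inv_mem' := fun {a} (ha : D a = 1) => show D a⁻¹ = 1 by
        have h1 : D a⁻¹ * D a = 1 := by rw [← map_mul, inv_mul_cancel, map_one]
        rwa [ha, mul_one] at h1 }
  have hKmem : ∀ m, m ∈ K ↔ D m = 1 := fun _ => Iff.rfl
  haveI : K.Normal := ⟨fun n (hn : D n = 1) g => show D (g * n * g⁻¹) = 1 by
    rw [map_mul, map_mul, hn, mul_one, ← map_mul, mul_inv_cancel, map_one]⟩
  -- the action is irreducible
  haveI hirr : π.IsIrreducible := by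
    refine irr_mk _ fun U hU => ?_
    by_contra hne
    push Not at hne
    obtain ⟨U', hU', hUU'⟩ := exists_compl π hU
    have hadd := Submodule.finrank_add_eq_of_isCompl hUU'
    have h0 : finrank ℂ U ≠ 0 := fun h => hne.1 (Submodule.finrank_eq_zero.1 h)
    have h0' : finrank ℂ U' ≠ 0 := fun h => hne.2 (by
      have := hUU'.sup_eq_top
      rwa [Submodule.finrank_eq_zero.1 h, sup_bot_eq] at this)
    have hline : ∀ (L : Submodule ℂ W), Inv π L → finrank ℂ L = 1 →
        L ≤ LinearMap.eqLocus (π (x * y)) (π (y * x)) := by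
      intro L hL hL1 v hv
      obtain ⟨v0, -, hspan⟩ := finrank_eq_one_iff'.1 hL1
      obtain ⟨a, ha⟩ := hspan ⟨π x v0, hL x v0 v0.2⟩
      obtain ⟨b, hb⟩ := hspan ⟨π y v0, hL y v0 v0.2⟩
      obtain ⟨c, hc⟩ := hspan ⟨v, hv⟩
      have ha' : π x v0 = a • (v0 : W) := (congrArg Subtype.val ha).symm
      have hb' : π y v0 = b • (v0 : W) := (congrArg Subtype.val hb).symm
      have hc' : v = c • (v0 : W) := (congrArg Subtype.val hc).symm
      rw [LinearMap.mem_eqLocus, hc', map_smul, map_smul, map_mul, map_mul, Module.End.mul_apply,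
        Module.End.mul_apply, hb', map_smul, ha', map_smul, hb', smul_comm a b]
    refine hxy (eq_one_of_eq hf (LinearMap.ext fun v => ?_))
    have hv : v ∈ U ⊔ U' := by rw [hUU'.sup_eq_top]; trivial
    exact sup_le (hline U hU (by omega)) (hline U' hU' (by omega)) hv
  -- the central involution
  obtain ⟨j, hj⟩ : ∃ j : M, orderOf j = 2 := by
    letI : Fintype M := Fintype.ofFinite M
    let χ : IrrCharacter M := ⟨π.character, H12.isIrrCharacter_character π⟩
    have h := H24.charDegree_dvd_card χ
    have h1 : charDegree (χ : M → ℂ) = 2 := by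
      have h' := (H24.irr_one χ).symm.trans (Representation.char_one π)
      rw [h2] at h'
      exact_mod_cast h'
    rw [h1] at h
    haveI : Fact (Nat.Prime 2) := ⟨Nat.prime_two⟩
    exact exists_prime_orderOf_dvd_card' 2 h
  have hjK : j ∈ K := by
    have h5 := hD5 j
    have h22 : D j ^ 2 = 1 := by rw [← map_pow, ← hj, pow_orderOf_eq_one, map_one]
    rw [hKmem]
    calc D j = D j ^ 5 := by
          rw [show (5 : ℕ) = 2 * 2 + 1 from rfl, pow_succ, pow_mul, h22, one_pow, one_mul]
      _ = 1 := h5
  have hjneg := neg_of_involution hf h2 hjK hj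
  have hjc : ∀ m : M, Commute j m := fun m => eq_one_of_eq hf (a := j * m) (b := m * j) (by
    rw [map_mul, map_mul, hjneg, smul_mul_assoc, one_mul, mul_smul_comm, mul_one])
  -- five does not divide the order of the kernel
  have hK6 : ∀ m ∈ K, orderOf m ≤ 6 := fun m hm => order_le_six hf h2 hno m hm
  have h5K : ¬ 5 ∣ Nat.card K := by
    intro h5
    obtain ⟨u, hu⟩ := exists_prime_orderOf_dvd_card' 5 h5
    have hu' : orderOf (u : M) = 5 := by rw [← hu, Subgroup.orderOf_coe]
    have h := hK6 (j * u) (K.mul_mem hjK u.2)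
    rw [(hjc u).orderOf_mul_eq_mul_orderOf_of_coprime (by rw [hj, hu']; norm_num), hj, hu'] at h
    omega
  have hprimes : ∀ q : ℕ, q.Prime → q ∣ Nat.card K → q = 2 ∨ q = 3 := by
    intro q hq hqK
    haveI : Fact q.Prime := ⟨hq⟩
    obtain ⟨u, hu⟩ := exists_prime_orderOf_dvd_card' q hqK
    have := hK6 u u.2
    rw [Subgroup.orderOf_coe, hu] at this
    have h2le := hq.two_le
    interval_cases q <;> norm_num at hq <;> norm_num
    exact h5K hqK
  have hbound : ∀ (q : ℕ), q.Prime → ∀ R : Subgroup M, R ≤ K → IsPGroup q R → q ∣ Nat.card K →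
      Nat.card R ≤ 8 ∧ (q = 3 → Nat.card R ≤ 3) := by
    intro q hq R hRK hR hqK
    haveI : Fact q.Prime := ⟨hq⟩
    have hord : ∀ r ∈ R, ∃ k, orderOf r = q ^ k := fun r hr => by
      obtain ⟨k, hk⟩ := hR ⟨r, hr⟩
      obtain ⟨l, -, hl⟩ := (Nat.dvd_prime_pow hq).1
        (orderOf_dvd_of_pow_eq_one (congrArg Subtype.val hk : r ^ q ^ k = 1))
      exact ⟨l, hl⟩
    rcases hprimes q hq hqK with rfl | rfl
    · refine ⟨card_two hf h2 (fun r hr => hRK hr) fun r hr => ?_, by omega⟩
      obtain ⟨k, hk⟩ := hord r hr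
      have h6 := hK6 r (hRK hr)
      rw [hk] at h6 ⊢
      have : k < 3 := by
        by_contra hk3
        push Not at hk3
        have : 2 ^ 3 ≤ 2 ^ k := Nat.pow_le_pow_right (by norm_num) hk3
        omega
      interval_cases k <;> norm_num
    · have h3 : Nat.card R ≤ 3 := by
        refine card_three hf h2 (fun r hr => hRK hr) fun r hr hr1 => ?_
        obtain ⟨k, hk⟩ := hord r hr
        have h6 := hK6 r (hRK hr)
        rw [hk] at h6 ⊢
        have : k < 2 := by
          by_contra hk3
          push Not at hk3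
          have : 3 ^ 2 ≤ 3 ^ k := Nat.pow_le_pow_right (by norm_num) hk3
          omega
        interval_cases k
        · exact absurd (orderOf_eq_one_iff.1 (hk.trans (pow_zero 3))) hr1
        · norm_num
      exact ⟨by omega, fun _ => h3⟩
  -- the kernel is centralised by `x`
  set C : Subgroup M := K ⊓ Subgroup.centralizer ({x} : Set M) with hC
  have hxc : ∀ k : ℕ, ∀ m : M, (fun m => x * m * x⁻¹)^[k] m = x ^ k * m * (x ^ k)⁻¹ := by
    intro k m
    induction k with
    | zero => simp
    | succ k ih => rw [Function.iterate_succ_apply', ih, pow_succ']; group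
  have hKC : Nat.card K ∣ Nat.card C := by
    refine (Nat.dvd_iff_prime_pow_dvd_dvd _ _).2 fun q e hq hqe => ?_
    rcases Nat.eq_zero_or_pos e with rfl | he
    · simp
    have hqK : q ∣ Nat.card K := (dvd_pow_self q he.ne').trans hqe
    haveI : Fact q.Prime := ⟨hq⟩
    letI : Fintype (Sylow q K) := Fintype.ofFinite _
    let φ : MulAut K := MulAut.conjNormal x
    have hφ : ∀ (a : K), ((φ a : K) : M) = x * a * x⁻¹ := fun a => MulAut.conjNormal_apply _ a
    have hφ5 : φ ^ 5 = 1 := by rw [← map_pow, hx, map_one]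
    let f : Function.End (Sylow q K) := fun Q => φ • Q
    have hfit : ∀ (k : ℕ) (Q : Sylow q K), (f ^ k) Q = φ ^ k • Q := by
      intro k
      induction k with
      | zero => intro Q; rw [pow_zero, pow_zero, one_smul]; rfl
      | succ k ih =>
        intro Q
        rw [pow_succ']
        show f ((f ^ k) Q) = _
        rw [ih, pow_succ', mul_smul]
    have hf5 : f ^ 5 ^ 1 = 1 := funext fun Q => by
      rw [pow_one, hfit, hφ5, one_smul]; rfl
    obtain ⟨Q, hQ⟩ : ∃ Q : Sylow q K, f Q = Q := by
      by_contra hnone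
      push Not at hnone
      haveI : IsEmpty f.fixedPoints := ⟨fun Q => hnone Q.1 Q.2⟩
      have h := Equiv.Perm.card_fixedPoints_modEq hf5
      rw [Fintype.card_eq_zero (α := f.fixedPoints), ← Nat.card_eq_fintype_card,
        Nat.modEq_zero_iff_dvd] at h
      obtain ⟨Q⟩ : Nonempty (Sylow q K) := inferInstance
      exact h5K (h.trans ((Q.card_dvd_index).trans (Q : Subgroup K).index_dvd_card))
    set R := (Q : Subgroup K).map K.subtype with hR
    have hRK : R ≤ K := Subgroup.map_subtype_le _
    have hRp : IsPGroup q R := Q.isPGroup'.map _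
    have hRcard : Nat.card R = q ^ (Nat.card K).factorization q := by
      rw [hR, Subgroup.card_subtype, Q.card_eq_multiplicity]
    have hRinv : ∀ r ∈ R, x * r * x⁻¹ ∈ R := by
      rintro _ ⟨a, ha, rfl⟩
      refine ⟨φ a, ?_, hφ a⟩
      have h1 : φ • a ∈ φ • (Q : Subgroup K) := Subgroup.smul_mem_pointwise_smul a φ _ ha
      rwa [show φ • (Q : Subgroup K) = Q from
        (Sylow.pointwise_smul_def (g := φ) (P := Q)).symm.trans (congrArg _ hQ)] at h1
    have hRC : R ≤ C := by
      letI : Fintype R := Fintype.ofFinite R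
      let g : Function.End R := fun r => ⟨x * r * x⁻¹, hRinv r r.2⟩
      have hgit : ∀ (k : ℕ) (r : R), ((g ^ k) r : M) = x ^ k * r * (x ^ k)⁻¹ := by
        intro k
        induction k with
        | zero => intro r; rw [pow_zero, pow_zero, one_mul, inv_one, mul_one]; rfl
        | succ k ih =>
          intro r
          rw [pow_succ']
          show x * ((g ^ k) r : M) * x⁻¹ = _
          rw [ih, pow_succ']; group
      have hg5 : g ^ 5 ^ 1 = 1 := funext fun r => Subtype.ext (by
        rw [pow_one, hgit, hx, one_mul, inv_one, mul_one]; rfl)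
      set F : Subgroup M := R ⊓ Subgroup.centralizer ({x} : Set M) with hF
      have hfix : Fintype.card g.fixedPoints = Nat.card F := by
        rw [← Nat.card_eq_fintype_card]
        refine Nat.card_congr ⟨fun r => ⟨r.1, r.1.2, Subgroup.mem_centralizer_singleton_iff.2 ?_⟩,
          fun r => ⟨⟨r.1, r.2.1⟩, ?_⟩, fun r => rfl, fun r => rfl⟩
        · have h1 : x * (r.1 : M) * x⁻¹ = r.1 := congrArg Subtype.val r.2
          exact (mul_inv_eq_iff_eq_mul.1 h1).symm
        · refine Subtype.ext (?_ : x * (r.1 : M) * x⁻¹ = r.1)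
          rw [← Subgroup.mem_centralizer_singleton_iff.1 r.2.2, mul_inv_cancel_right]
      have hmod : Nat.card R ≡ Nat.card F [MOD 5] := by
        rw [← hfix, Nat.card_eq_fintype_card]
        exact Equiv.Perm.card_fixedPoints_modEq hg5
      obtain ⟨hb8, hb3⟩ := hbound q hq R hRK hRp hqK
      obtain ⟨l, hl, hFl⟩ := (Nat.dvd_prime_pow hq).1
        (hRcard ▸ Subgroup.card_dvd_of_le (inf_le_left : F ≤ R))
      have hle : Nat.card R ≤ Nat.card F := by
        rw [hRcard] at hb8 hb3 hmod ⊢
        rw [hFl] at hmod ⊢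
        generalize (Nat.card K).factorization q = n at *
        rcases hprimes q hq hqK with rfl | rfl
        · have hn : n ≤ 3 := by
            by_contra h
            push Not at h
            have : 2 ^ 4 ≤ 2 ^ n := Nat.pow_le_pow_right (by norm_num) h
            omega
          exact (congrArg (2 ^ ·) (eq_of_two_modEq n hn l (hl.trans hn) hmod)).le
        · have hn : n ≤ 1 := by
            by_contra h
            push Not at h
            have : 3 ^ 2 ≤ 3 ^ n := Nat.pow_le_pow_right (by norm_num) h
            have := hb3 rfl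
            omega
          exact (congrArg (3 ^ ·) (eq_of_three_modEq n hn l (hl.trans hn) hmod)).le
      rw [← Subgroup.eq_of_le_of_card_ge inf_le_left hle]
      exact inf_le_inf_right _ hRK
    refine dvd_trans ?_ (Subgroup.card_dvd_of_le hRC)
    rw [hRcard]
    exact (pow_dvd_pow q ((hq.pow_dvd_iff_le_factorization Nat.card_pos.ne').1 hqe))
  have hCK : C = K := Subgroup.eq_of_le_of_card_ge inf_le_left (Nat.le_of_dvd Nat.card_pos hKC)
  have hy' : y * x⁻¹ ∈ C := by
    rw [hCK, hKmem, map_mul, hDdef y, ← hdet, ← hDdef, ← map_mul, mul_inv_cancel, map_one]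
  have h1 := Subgroup.mem_centralizer_singleton_iff.1 hy'.2
  rw [inv_mul_cancel_right] at h1
  exact hxy (by rw [← mul_assoc, eq_mul_inv_iff_mul_eq] at h1; exact h1.symm)

end H44.SmallPrime
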