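import Cfsg.Agent.H44.SmallPrime.Close
import Cfsg.Agent.H44.SmallPrime.Plane
import Cfsg.Agent.H44.SmallPrime.Comb
import Cfsg.Agent.H14.SmallDegreeSylow

/-!
A group of degree three with a non-normal Sylow subgroup for the prime five meeting the centre
trivially has a Sylow subgroup of order five.
-/

set_option autoImplicit false
set_option linter.unusedSectionVars false
set_option linter.style.haveILetI false

namespace H44.SmallPrime

open Module Cfsg H28.SmallDeg

universe u

section Three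

variable {G : Type u} [Group G] [Fintype G]

/-- No non-central element has an eigenvalue within sixty degrees of the others. -/
def Open3 (ρ : Representation ℂ G (Fin 3 → ℂ)) : Prop :=
  ∀ (s : G) (b : Basis (Fin (finrank ℂ (Fin 3 → ℂ))) ℂ (Fin 3 → ℂ))
    (μ : Fin (finrank ℂ (Fin 3 → ℂ)) → ℂ) (i0 : Fin (finrank ℂ (Fin 3 → ℂ))),
    s ∉ Subgroup.center G → (∀ i, ρ s (b i) = μ i • b i) → (∀ i, μ i ^ orderOf s = 1) →
    (∀ i, ‖μ i - μ i0‖ < 1) → False

theorem eig_pow (ρ : Representation ℂ G (Fin 3 → ℂ)) {s : G} {c : ℂ} {v : Fin 3 → ℂ}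
    (h : ρ s v = c • v) (k : ℕ) : ρ (s ^ k) v = c ^ k • v := by
  induction k with
  | zero => simp
  | succ k ih => rw [pow_succ, map_mul, Module.End.mul_apply, h, map_smul, ih, smul_smul, ← pow_succ']

theorem pow_orderOf_eig {ρ : Representation ℂ G (Fin 3 → ℂ)} {s : G} {c : ℂ} {v : Fin 3 → ℂ}
    (hv : v ≠ 0) (h : ρ s v = c • v) : c ^ orderOf s = 1 := by
  have h1 := eig_pow ρ h (orderOf s)
  rw [pow_orderOf_eq_one, map_one, Module.End.one_apply] at h1
  exact smul_left_injective ℂ hv (by simpa using h1.symm)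

/-- An element of order twenty-five has a power with a middle eigenvalue. -/
theorem false_of_order_sq (ρ : Representation ℂ G (Fin 3 → ℂ)) (hf : ∀ g, ρ g = 1 → g = 1)
    (hopen : Open3 ρ) (y : G) (hy : y ^ 25 = 1) (hy5 : y ^ 5 ∉ Subgroup.center G) : False := by
  classical
  obtain ⟨b, μ, hb⟩ := H12.exists_eigenbasis (T := ρ y) (n := 25) (by norm_num)
    (by rw [← map_pow, hy, map_one])
  have hprim := Complex.isPrimitiveRoot_exp 25 (by norm_num)
  set e := Complex.exp (2 * Real.pi * Complex.I / ((25 : ℕ) : ℂ)) with he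
  have he0 : e ≠ 0 := Complex.exp_ne_zero _
  choose d hd25 hd using fun i => hprim.eq_pow_of_pow_eq_one (hb i).2
  have hfin : finrank ℂ (Fin 3 → ℂ) = 3 := finrank_fin_fun ℂ
  let ι := finCongr hfin
  let dz : Fin 3 → Fin 25 := fun m => ⟨d (ι.symm m), hd25 _⟩
  have hμ : ∀ i, μ i = e ^ (dz (ι i)).val := fun i => by
    simp only [dz, Equiv.symm_apply_apply]
    exact (hd i).symm
  have heq : ∀ a b : Fin 25, e ^ a.val * e ^ b.val = e ^ (a + b).val := fun a b => by
    rw [Fin.val_add, ← pow_add, ← pow_eq_pow_mod _ hprim.pow_eq_one]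
  have hmul : ∀ a b : Fin 25, (e ^ a.val) ^ b.val = e ^ (b * a).val := fun a b => by
    rw [Fin.val_mul, ← pow_mul, ← pow_eq_pow_mod _ hprim.pow_eq_one, mul_comm]
  have hnz : (dz 1 - dz 0).val % 5 ≠ 0 ∨ (dz 2 - dz 0).val % 5 ≠ 0 := by
    by_contra hno
    push Not at hno
    refine hy5 (mem_center_of_scalar hf (c := (e ^ (dz 0).val) ^ 5) fun v => ?_)
    have h5 : ∀ m, (e ^ (dz m).val) ^ 5 = (e ^ (dz 0).val) ^ 5 := by
      intro m
      have hsub : ∀ a : Fin 25, a.val % 5 = 0 → (e ^ a.val) ^ 5 = 1 := fun a ha => by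
        obtain ⟨t, ht⟩ := Nat.dvd_of_mod_eq_zero ha
        rw [ht, ← pow_mul, show 5 * t * 5 = 25 * t by ring, pow_mul, hprim.pow_eq_one, one_pow]
      have hm : (dz m - dz 0).val % 5 = 0 := by
        fin_cases m
        · simp
        · exact hno.1
        · exact hno.2
      rw [show dz m = (dz m - dz 0) + dz 0 by rw [sub_add_cancel], ← heq, mul_pow, hsub _ hm, one_mul]
    have hall : ρ (y ^ 5) = (e ^ (dz 0).val) ^ 5 • (1 : Module.End ℂ (Fin 3 → ℂ)) :=
      b.ext fun i => by
        rw [eig_pow ρ (hb i).1 5, hμ i, h5]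
        simp
    rw [hall]
    simp
  obtain ⟨k, hk5, hkmid⟩ := comb_table _ _ hnz
  -- the centre is one of the three eigenvalues
  obtain ⟨m0, hm0⟩ : ∃ m0 : Fin 3, ∀ m : Fin 3, smallRes (k * dz m - k * dz m0) = true := by
    have h00 : smallRes 0 = true := rfl
    have hneg : ∀ a : Fin 25, smallRes (-a) = smallRes a := by decide
    rw [mul_sub, mul_sub] at hkmid
    simp only [middle, Bool.or_eq_true, Bool.and_eq_true] at hkmid
    rcases hkmid with (⟨h1, h2⟩ | ⟨h1, h2⟩) | ⟨h1, h2⟩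
    · refine ⟨0, fun m => ?_⟩
      fin_cases m
      · simpa using h00
      · exact h1
      · exact h2
    · refine ⟨1, fun m => ?_⟩
      fin_cases m
      · rw [← hneg, neg_sub]; exact h1
      · simpa using h00
      · simpa [sub_sub_sub_cancel_right] using h2
    · refine ⟨2, fun m => ?_⟩
      fin_cases m
      · rw [← hneg, neg_sub]; exact h1
      · simpa [sub_sub_sub_cancel_right] using h2
      · simpa using h00
  have hcop : Nat.Coprime k.val 25 :=
    Nat.Coprime.pow_right 2 ((Nat.Prime.coprime_iff_not_dvd (by norm_num : Nat.Prime 5)).2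
      fun h => hk5 (Nat.mod_eq_zero_of_dvd h)).symm
  refine hopen (y ^ k.val) b (fun i => μ i ^ k.val) (ι.symm m0) ?_
    (fun i => eig_pow ρ (hb i).1 _)
    (fun i => pow_orderOf_eig (b.ne_zero i) (eig_pow ρ (hb i).1 _)) ?_
  · intro hc
    obtain ⟨l, hl⟩ := exists_pow_eq_self_of_coprime
      (Nat.Coprime.coprime_dvd_right (orderOf_dvd_of_pow_eq_one hy) hcop)
    exact hy5 (Subgroup.pow_mem _ (hl ▸ Subgroup.pow_mem _ hc l) 5)
  · intro i
    rw [hμ i, hμ (ι.symm m0), Equiv.apply_symm_apply, hmul, hmul]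
    set r := k * dz (ι i) - k * dz m0 with hr
    rw [show k * dz (ι i) = r + k * dz m0 by rw [hr, sub_add_cancel], ← heq,
      show e ^ r.val * e ^ (k * dz m0).val - e ^ (k * dz m0).val =
        e ^ (k * dz m0).val * (e ^ r.val - 1) by ring, norm_mul, norm_pow,
      H12.norm_eq_one_of_pow_eq_one (by norm_num) hprim.pow_eq_one, one_pow, one_mul]
    have hsm := hm0 (ι i)
    simp only [smallRes, ← hr, Bool.or_eq_true, decide_eq_true_eq] at hsm
    rcases hsm with h | h
    · have := rootExp_pow_near (n := 25) (by norm_num) (d := (r.val : ℤ)) (by simp; omega)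
      simpa [he] using this
    · have := rootExp_pow_near (n := 25) (by norm_num) (d := -((25 - r.val : ℕ) : ℤ)) (by
        rw [abs_neg, Nat.abs_cast]
        omega)
      rw [← he, zpow_neg, zpow_natCast] at this
      rwa [inv_eq_of_mul_eq_one_right (a := e ^ (25 - r.val)) (b := e ^ r.val) (by
        rw [← pow_add, Nat.sub_add_cancel r.isLt.le, hprim.pow_eq_one])] at this

variable {p : ℕ} [hp : Fact p.Prime]

/-- An element with a repeated eigenvalue in an exponent five Sylow subgroup. -/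
theorem exists_repeated (ρ : Representation ℂ G (Fin 3 → ℂ)) (P : Sylow p G)
    (hab : ∀ x ∈ (P : Subgroup G), ∀ y ∈ (P : Subgroup G), x * y = y * x)
    (h5 : ∀ x ∈ (P : Subgroup G), x ^ 5 = 1) (hbig : 5 < Nat.card (P : Subgroup G)) :
    ∃ h ∈ (P : Subgroup G), h ≠ 1 ∧ ∃ (b : Basis (Fin 3) ℂ (Fin 3 → ℂ)) (μ : Fin 3 → ℂ),
      (∀ i, ρ h (b i) = μ i • b i) ∧ ∃ i j, i ≠ j ∧ μ i = μ j := by
  classical
  haveI : Fintype (P : Subgroup G) := Fintype.ofFinite _
  obtain ⟨⟨x, hx⟩, hx1⟩ : ∃ x : (P : Subgroup G), x ≠ 1 :=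
    Fintype.exists_ne_of_one_lt_card (by rw [← Nat.card_eq_fintype_card]; omega) 1
  have hx1' : x ≠ 1 := fun h => hx1 (Subtype.ext h)
  obtain ⟨b0, μ0, hb0⟩ := H12.exists_eigenbasis (orderOf_pos x).ne' (H12.rep_pow_orderOf ρ x)
  have hfin : finrank ℂ (Fin 3 → ℂ) = 3 := finrank_fin_fun ℂ
  set b := b0.reindex (finCongr hfin) with hbdef
  set μ := μ0 ∘ (finCongr hfin).symm with hμdef
  have hb : ∀ i, ρ x (b i) = μ i • b i := fun i => by
    simpa [hbdef, hμdef] using (hb0 ((finCongr hfin).symm i)).1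
  by_cases hrep : ∃ i j, i ≠ j ∧ μ i = μ j
  · exact ⟨x, hx, hx1', b, μ, hb, hrep⟩
  push Not at hrep
  have hdiag : ∀ y : (P : Subgroup G), ∀ i, ∃ c : ℂ, ρ y (b i) = c • b i := by
    intro y i
    refine ⟨b.repr (ρ y (b i)) i, ?_⟩
    have h1 : ρ x (ρ y (b i)) = μ i • ρ y (b i) := by
      rw [← Module.End.mul_apply, ← map_mul, hab x hx y y.2, map_mul, Module.End.mul_apply, hb,
        map_smul]
    have h2 : ρ x (ρ y (b i)) = ∑ k, (b.repr (ρ y (b i)) k * μ k) • b k := by
      conv_lhs => rw [← b.sum_repr (ρ y (b i))]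
      rw [map_sum]
      exact Finset.sum_congr rfl fun k _ => by rw [map_smul, hb, smul_smul]
    conv_lhs => rw [← b.sum_repr (ρ y (b i))]
    refine Finset.sum_eq_single i (fun k _ hki => ?_) (fun h => absurd (Finset.mem_univ i) h)
    have h3 := congrArg (fun w => b.repr w k) (h1.symm.trans h2)
    simp only [map_smul, Finsupp.smul_apply, smul_eq_mul, b.repr_sum_self] at h3
    have h4 : b.repr (ρ y (b i)) k * (μ i - μ k) = 0 := by linear_combination h3
    rcases mul_eq_zero.1 h4 with h | h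
    · rw [h, zero_smul]
    · exact absurd (sub_eq_zero.1 h) (hrep i k (Ne.symm hki))
  choose c hc using hdiag
  have hc5 : ∀ y i, c y i ^ 5 = 1 := fun y i => by
    have h := eig_pow ρ (hc y i) 5
    rw [h5 y y.2, map_one, Module.End.one_apply] at h
    exact smul_left_injective ℂ (b.ne_zero i) (by simpa using h.symm)
  have hc0 : ∀ y i, c y i ≠ 0 := fun y i h => by
    have := hc5 y i
    rw [h] at this
    norm_num at this
  obtain ⟨y, -, y', -, hne, he⟩ := Finset.exists_ne_map_eq_of_card_lt_of_maps_to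
    (s := (Finset.univ : Finset (P : Subgroup G)))
    (t := Polynomial.nthRootsFinset 5 (1 : ℂ)) (f := fun y => c y 0 / c y 1)
    (by
      rw [(Complex.isPrimitiveRoot_exp 5 (by norm_num)).card_nthRootsFinset, Finset.card_univ,
        ← Nat.card_eq_fintype_card]
      exact hbig)
    (fun y _ => by
      rw [Finset.mem_coe, Polynomial.mem_nthRootsFinset (by norm_num), div_pow, hc5, hc5, div_one])
  have hy'inv : ∀ i, ρ ((y⁻¹ * y' : (P : Subgroup G)) : G) (b i) = (c y' i / c y i) • b i := by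
    intro i
    have h1 : ρ (y : G)⁻¹ (b i) = (c y i)⁻¹ • b i := by
      have h2 : ρ (y : G)⁻¹ (ρ (y : G) (b i)) = b i := by
        rw [← Module.End.mul_apply, ← map_mul, inv_mul_cancel, map_one, Module.End.one_apply]
      rw [hc, map_smul] at h2
      exact (eq_inv_smul_iff₀ (hc0 y i)).2 h2
    rw [Subgroup.coe_mul, Subgroup.coe_inv, map_mul, Module.End.mul_apply, hc, map_smul, h1,
      smul_smul, div_eq_mul_inv]
  refine ⟨_, (y⁻¹ * y').2, ?_, b, _, hy'inv, 0, 1, by decide, ?_⟩
  · intro h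
    exact hne (inv_mul_eq_one.1 (Subtype.ext h))
  · have he' : c y 0 / c y 1 = c y' 0 / c y' 1 := he
    rw [div_eq_div_iff (hc0 _ _) (hc0 _ _)] at he' ⊢
    linear_combination -he'

/-- Homologies of order five do not exist. -/
theorem false_of_homology (hp3 : 3 < p) (ρ : Representation ℂ G (Fin 3 → ℂ)) [ρ.IsIrreducible]
    (hf : ∀ g, ρ g = 1 → g = 1) (hopen : Open3 ρ) (P : Sylow p G)
    (hnn : ¬ (P : Subgroup G).Normal) (h : G) (h5 : h ^ 5 = 1) (hZ : h ∉ Subgroup.center G)
    (b : Basis (Fin 3) ℂ (Fin 3 → ℂ)) (μ : Fin 3 → ℂ) (hb : ∀ i, ρ h (b i) = μ i • b i)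
    {i j : Fin 3} (hij : i ≠ j) (hμ : μ i = μ j) : False := by
  classical
  obtain ⟨k, hki, hkj, hcov⟩ : ∃ k, k ≠ i ∧ k ≠ j ∧ ∀ m, m = i ∨ m = j ∨ m = k := by
    exact (by decide : ∀ i j : Fin 3, i ≠ j → ∃ k, k ≠ i ∧ k ≠ j ∧ ∀ m, m = i ∨ m = j ∨ m = k) i j hij
  set a := μ i with ha
  set a' := μ k with ha'
  have hval : ∀ m, μ m = a ∨ μ m = a' := fun m => by
    rcases hcov m with rfl | rfl | rfl
    exacts [Or.inl rfl, Or.inl hμ.symm, Or.inr rfl]
  have haa' : a ≠ a' := fun he => hZ (mem_center_of_scalar hf (c := a) fun v => by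
    have : ρ h = a • (1 : Module.End ℂ (Fin 3 → ℂ)) := b.ext fun m => by
      rcases hval m with h1 | h1
      · simp [hb, h1]
      · simp [hb, h1, he]
    rw [this]; simp)
  have hinj : ∀ g : G, Function.Injective (ρ g) := fun g =>
    Function.LeftInverse.injective (g := ρ g⁻¹) fun w => by
      rw [← Module.End.mul_apply, ← map_mul, inv_mul_cancel, map_one, Module.End.one_apply]
  by_cases hall : ∀ g : G, g * h * g⁻¹ * h = h * (g * h * g⁻¹)
  · set N := Subgroup.normalClosure ({h} : Set G) with hN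
    have hNc : N ≤ Subgroup.centralizer ({h} : Set G) := (Subgroup.closure_le _).2 fun w hw => by
      obtain ⟨z, hz, hc⟩ := Group.mem_conjugatesOfSet_iff.1 hw
      rw [Set.mem_singleton_iff] at hz
      subst hz
      obtain ⟨g, rfl⟩ := isConj_iff.1 hc
      exact Subgroup.mem_centralizer_singleton_iff.2 (hall g)
    refine hnn (normal_of_abelian_normal hp3 ρ hf N (b.ne_zero k) (fun w hw => ?_)
      (Subgroup.subset_normalClosure (Set.mem_singleton h)) hZ P)
    have hwh := Subgroup.mem_centralizer_singleton_iff.1 (hNc hw)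
    refine ⟨b.repr (ρ w (b k)) k, ?_⟩
    have h1 : ρ h (ρ w (b k)) = a' • ρ w (b k) := by
      rw [← Module.End.mul_apply, ← map_mul, ← hwh, map_mul, Module.End.mul_apply, hb, map_smul]
    have h2 : ρ h (ρ w (b k)) = ∑ m, (b.repr (ρ w (b k)) m * μ m) • b m := by
      conv_lhs => rw [← b.sum_repr (ρ w (b k))]
      rw [map_sum]
      exact Finset.sum_congr rfl fun m _ => by rw [map_smul, hb, smul_smul]
    conv_lhs => rw [← b.sum_repr (ρ w (b k))]
    refine Finset.sum_eq_single k (fun m _ hmk => ?_) (fun h => absurd (Finset.mem_univ k) h)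
    have h3 := congrArg (fun w => b.repr w m) (h1.symm.trans h2)
    simp only [map_smul, Finsupp.smul_apply, smul_eq_mul, b.repr_sum_self] at h3
    have hma : μ m = a := by
      rcases hcov m with rfl | rfl | rfl
      exacts [rfl, hμ.symm, absurd rfl hmk]
    have h4 : b.repr (ρ w (b k)) m * (a' - a) = 0 := by rw [hma] at h3; linear_combination h3
    rcases mul_eq_zero.1 h4 with h | h
    · rw [h, zero_smul]
    · exact absurd (sub_eq_zero.1 h).symm haa'
  push Not at hall
  obtain ⟨g, hg⟩ := hall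
  set h' := g * h * g⁻¹ with hh'
  let eg : (Fin 3 → ℂ) ≃ₗ[ℂ] (Fin 3 → ℂ) :=
    LinearEquiv.ofBijective (ρ g) ⟨hinj g, LinearMap.injective_iff_surjective.1 (hinj g)⟩
  set b' := b.map eg with hb'def
  have hb' : ∀ m, ρ h' (b' m) = μ m • b' m := fun m => by
    show ρ (g * h * g⁻¹) (ρ g (b m)) = μ m • ρ g (b m)
    rw [← Module.End.mul_apply, ← map_mul, inv_mul_cancel_right, map_mul, Module.End.mul_apply, hb,
      map_smul]
  have hW2 : ∀ (s : G) (B : Basis (Fin 3) ℂ (Fin 3 → ℂ)), (∀ m, ρ s (B m) = μ m • B m) →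
      2 ≤ finrank ℂ (eig ρ s a) := by
    intro s B hB
    let f : Fin 2 → eig ρ s a :=
      ![⟨B i, mem_eig.2 (hB i)⟩, ⟨B j, mem_eig.2 (by rw [hB j, ← hμ])⟩]
    have hli : LinearIndependent ℂ f := by
      refine LinearIndependent.of_comp (eig ρ s a).subtype ?_
      have : (eig ρ s a).subtype ∘ f = B ∘ ![i, j] := by
        funext m; fin_cases m <;> rfl
      rw [this]
      refine B.linearIndependent.comp _ fun m n hmn => ?_
      fin_cases m <;> fin_cases n <;> simp_all
    simpa using hli.fintype_card_le_finrank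
  obtain ⟨v, hv, hv0⟩ := Submodule.exists_mem_ne_zero_of_ne_bot
    (p := eig ρ h a ⊓ eig ρ h' a) fun hbot => by
      have h1 := finrank_inf_ge (eig ρ h a) (eig ρ h' a)
      rw [hbot, finrank_bot, finrank_fin_fun] at h1
      have := hW2 h b hb
      have := hW2 h' b' hb'
      omega
  set L := Subgroup.closure ({h, h'} : Set G) with hL
  have hhL : h ∈ L := Subgroup.subset_closure (Set.mem_insert _ _)
  have hh'L : h' ∈ L := Subgroup.subset_closure (Set.mem_insert_of_mem _ rfl)
  have hlam : ∀ l : L, ∃ c : ℂ, ρ (l : G) v = c • v := by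
    rintro ⟨l, hl⟩
    show ∃ c : ℂ, ρ l v = c • v
    induction hl using Subgroup.closure_induction with
    | mem z hz =>
      rcases hz with rfl | hz
      · exact ⟨a, mem_eig.1 hv.1⟩
      · rw [Set.mem_singleton_iff] at hz
        exact ⟨a, hz ▸ mem_eig.1 hv.2⟩
    | one => exact ⟨1, by simp⟩
    | mul y z _ _ hy hz =>
      obtain ⟨c, hc⟩ := hy
      obtain ⟨c', hc'⟩ := hz
      exact ⟨c' * c, by rw [map_mul, Module.End.mul_apply, hc', map_smul, hc, smul_smul]⟩
    | inv y _ hy =>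
      obtain ⟨c, hc⟩ := hy
      refine ⟨c⁻¹, ?_⟩
      have h2 : ρ y⁻¹ (ρ y v) = v := by
        rw [← Module.End.mul_apply, ← map_mul, inv_mul_cancel, map_one, Module.End.one_apply]
      have hc0 : c ≠ 0 := fun h0 => hv0 (hinj y (by rw [hc, h0, zero_smul, map_zero]))
      rw [hc, map_smul] at h2
      exact (eq_inv_smul_iff₀ hc0).2 h2
  choose lam hlam using hlam
  have hlam0 : ∀ l, lam l ≠ 0 := fun l h0 =>
    hv0 (hinj (l : G) (by rw [hlam, h0, zero_smul, map_zero]))
  have hlam1 : lam 1 = 1 := smul_left_injective ℂ hv0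
    (show lam 1 • v = (1 : ℂ) • v by rw [← hlam, OneMemClass.coe_one, map_one, one_smul]; rfl)
  have hlammul : ∀ l m, lam (l * m) = lam l * lam m := fun l m => smul_left_injective ℂ hv0
    (show lam (l * m) • v = (lam l * lam m) • v by
      rw [← hlam, Subgroup.coe_mul, map_mul, Module.End.mul_apply, hlam, map_smul, hlam, smul_smul,
        mul_comm])
  set σ : Representation ℂ L (Fin 3 → ℂ) := ρ.comp L.subtype with hσ
  have hℓ : Inv σ (Submodule.span ℂ {v}) := by
    intro l w hw
    obtain ⟨c, rfl⟩ := Submodule.mem_span_singleton.1 hw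
    show ρ (l : G) (c • v) ∈ _
    rw [map_smul, hlam, smul_smul]
    exact Submodule.smul_mem _ _ (Submodule.mem_span_singleton_self v)
  obtain ⟨U, hU, hcompl⟩ := exists_compl σ hℓ
  have hU2 : finrank ℂ U = 2 := by
    have := Submodule.finrank_add_eq_of_isCompl hcompl
    rw [finrank_fin_fun, finrank_span_singleton hv0] at this
    omega
  let τ := res σ U hU
  let π : Representation ℂ L U :=
    { toFun := fun l => (lam l)⁻¹ • τ l
      map_one' := by rw [hlam1, inv_one, map_one, one_smul]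
      map_mul' := fun l m => by rw [hlammul, map_mul, smul_mul_smul_comm, mul_inv] }
  have hπ : ∀ (l : L) (u : U), ((π l u : U) : Fin 3 → ℂ) = (lam l)⁻¹ • ρ (l : G) u := fun _ _ => rfl
  have hdecomp : ∀ w : Fin 3 → ℂ, ∃ (c : ℂ) (u : U), w = c • v + (u : Fin 3 → ℂ) := fun w => by
    have hw : w ∈ Submodule.span ℂ {v} ⊔ U := by rw [hcompl.sup_eq_top]; trivial
    obtain ⟨y, hy, z, hz, rfl⟩ := Submodule.mem_sup.1 hw
    obtain ⟨c, rfl⟩ := Submodule.mem_span_singleton.1 hy
    exact ⟨c, ⟨z, hz⟩, rfl⟩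
  -- determinants
  have hdet : ∀ (l : L) (B : Basis (Fin 3) ℂ (Fin 3 → ℂ)), (∀ m, ρ (l : G) (B m) = μ m • B m) →
      (l : G) ∉ Subgroup.center G → lam l = a → LinearMap.det (π l) = a' / a := by
    intro l B hB hlZ hla
    obtain ⟨c, ν, hc⟩ := H12.exists_eigenbasis (orderOf_pos l).ne' (H12.rep_pow_orderOf τ l)
    let c2 := c.reindex (finCongr hU2)
    let ν2 := ν ∘ (finCongr hU2).symm
    have hc2 : ∀ m, τ l (c2 m) = ν2 m • c2 m := fun m => by
      simpa [c2, ν2] using (hc ((finCongr hU2).symm m)).1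
    have hν : ∀ m, ν2 m = a ∨ ν2 m = a' := fun m => by
      obtain ⟨t, ht⟩ := eigen_mem B (ρ (l : G)) μ hB (c := ν2 m)
        (v := ((c2 m : U) : Fin 3 → ℂ)) (fun h0 => c2.ne_zero m (Subtype.ext h0))
        (congrArg Subtype.val (hc2 m) :)
      exact ht ▸ hval t
    have hsome : ∃ m, ν2 m = a := by
      have h1 := finrank_inf_ge (eig ρ (l : G) a) U
      have h2 := hW2 (l : G) B hB
      rw [finrank_fin_fun, hU2] at h1
      obtain ⟨w, hw, hw0⟩ := Submodule.exists_mem_ne_zero_of_ne_bot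
        (p := eig ρ (l : G) a ⊓ U) fun hbot => by rw [hbot, finrank_bot] at h1; omega
      exact eigen_mem c2 (τ l) ν2 hc2 (v := ⟨w, hw.2⟩) (fun h0 => hw0 (congrArg Subtype.val h0 :))
        (Subtype.ext (mem_eig.1 hw.1))
    have hnall : ¬ ∀ m, ν2 m = a := by
      intro hA
      refine hlZ (mem_center_of_scalar hf (c := a) fun w => ?_)
      obtain ⟨s, u, rfl⟩ := hdecomp w
      have hu : τ l u = a • u := by
        have : τ l = a • (1 : Module.End ℂ U) := c2.ext fun m => by rw [hc2, hA]; rfl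
        rw [this]; rfl
      rw [map_add, map_smul, hlam, hla, smul_add, smul_comm a s]
      exact congrArg _ (congrArg Subtype.val hu :)
    have hd : LinearMap.det (τ l) = a * a' := by
      rw [det_of_eigen c2 (τ l) ν2 hc2, Fin.prod_univ_two]
      obtain ⟨m, hm⟩ := hsome
      fin_cases m
      · rcases hν 1 with h1 | h1
        · exact absurd (fun m => by fin_cases m; exacts [hm, h1]) hnall
        · rw [h1, show ν2 0 = a from hm]
      · rcases hν 0 with h1 | h1
        · exact absurd (fun m => by fin_cases m; exacts [h1, hm]) hnall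
        · rw [h1, show ν2 1 = a from hm, mul_comm]
    show LinearMap.det ((lam l)⁻¹ • τ l) = a' / a
    rw [LinearMap.det_smul, hd, hU2, hla]
    have ha0 : a ≠ 0 := hla ▸ hlam0 l
    field_simp
  set M := L ⧸ MonoidHom.ker π
  let hbar : M := ((⟨h, hhL⟩ : L) : M)
  let hbar' : M := ((⟨h', hh'L⟩ : L) : M)
  have hlh : lam ⟨h, hhL⟩ = a :=
    smul_left_injective ℂ hv0 ((hlam ⟨h, hhL⟩).symm.trans (mem_eig.1 hv.1))
  have hlh' : lam ⟨h', hh'L⟩ = a :=
    smul_left_injective ℂ hv0 ((hlam ⟨h', hh'L⟩).symm.trans (mem_eig.1 hv.2))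
  have hh'Z : h' ∉ Subgroup.center G := fun hc => hZ (by
    have := (inferInstance : (Subgroup.center G).Normal).conj_mem h' hc g⁻¹
    simpa [hh', mul_assoc] using this)
  let πb := lift π (MonoidHom.ker π) fun _ hk => hk
  have hπb : ∀ l : L, πb (l : M) = π l := fun _ => rfl
  have hno : NoClose πb := by
    intro m hm
    induction m using QuotientGroup.induction_on with
    | _ l =>
      refine (QuotientGroup.eq_one_iff l).2 ?_
      obtain ⟨B, ν, hB⟩ := H12.exists_eigenbasis (orderOf_pos (l : G)).ne'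
        (H12.rep_pow_orderOf ρ (l : G))
      obtain ⟨i0, hi0⟩ := eigen_mem B (ρ (l : G)) ν (fun m => (hB m).1) hv0 (hlam l)
      have hnorm : ‖lam l‖ = 1 :=
        H12.norm_eq_one_of_pow_eq_one (orderOf_pos (l : G)).ne' (pow_orderOf_eig hv0 (hlam l))
      by_cases hlZ : (l : G) ∈ Subgroup.center G
      · obtain ⟨c, hc⟩ := exists_eig_top ρ (z := (l : G)) fun g => Subgroup.mem_center_iff.1 hlZ g
        have hc' : ∀ w, ρ (l : G) w = c • w := fun w => mem_eig.1 (hc ▸ Submodule.mem_top)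
        have hcl : c = lam l := smul_left_injective ℂ hv0 ((hc' v).symm.trans (hlam l))
        exact LinearMap.ext fun u => Subtype.ext (by
          rw [hπ, hc', hcl, inv_smul_smul₀ (hlam0 l)]; rfl)
      refine (hopen (l : G) B ν i0 hlZ (fun m => (hB m).1) (fun m => (hB m).2) fun m => ?_).elim
      obtain ⟨s, u, hsu⟩ := hdecomp (B m)
      have h1 : ρ (l : G) (B m) = ν m • B m := (hB m).1
      rw [hsu, map_add, map_smul, hlam, smul_add, smul_smul, smul_smul] at h1
      have h2 : (s * lam l - ν m * s) • v = ν m • (u : Fin 3 → ℂ) - ρ (l : G) u := by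
        rw [sub_smul, sub_eq_sub_iff_add_eq_add]
        rw [add_comm (ν m • (u : Fin 3 → ℂ))]
        exact h1
      have h3 : (s * lam l - ν m * s) • v = 0 :=
        (Submodule.disjoint_def.1 hcompl.disjoint) _
          (Submodule.smul_mem _ _ (Submodule.mem_span_singleton_self v))
          (h2 ▸ U.sub_mem (U.smul_mem _ u.2) (hU l u u.2))
      rw [hi0]
      by_cases hu0 : u = 0
      · have hs : s ≠ 0 := fun hs => B.ne_zero m (by simp [hsu, hs, hu0])
        have h4 := (smul_eq_zero.1 h3).resolve_right hv0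
        have : ν m = lam l := mul_left_cancel₀ hs (by linear_combination -h4)
        rw [this, sub_self, norm_zero]
        exact one_pos
      · have h5 : ρ (l : G) u = ν m • (u : Fin 3 → ℂ) := by
          rw [h3] at h2
          exact (sub_eq_zero.1 h2.symm).symm
        have h6 : πb (l : M) u = ((lam l)⁻¹ * ν m) • u := by
          rw [hπb]
          refine Subtype.ext ?_
          rw [hπ, h5, smul_smul]
          rfl
        have h7 := hm _ u hu0 h6
        rw [show ν m - lam l = lam l * ((lam l)⁻¹ * ν m - 1) by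
          rw [mul_sub, mul_inv_cancel_left₀ (hlam0 l), mul_one], norm_mul, hnorm, one_mul]
        exact h7
  have hgen : Subgroup.closure ({hbar, hbar'} : Set M) = ⊤ := by
    have h1 : Subgroup.closure ({⟨h, hhL⟩, ⟨h', hh'L⟩} : Set L) = ⊤ := by
      refine Eq.trans (congrArg _ ?_)
        (Subgroup.closure_closure_coe_preimage (k := ({h, h'} : Set G)))
      ext z
      simp [Subtype.ext_iff]
    have h2 := congrArg (Subgroup.map (QuotientGroup.mk' (MonoidHom.ker π))) h1
    rw [MonoidHom.map_closure, Subgroup.map_top_of_surjective _ (QuotientGroup.mk'_surjective _),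
      Set.image_pair] at h2
    exact h2
  have hpow5 : h' ^ 5 = 1 := by rw [hh', conj_pow, h5, mul_one, mul_inv_cancel]
  have hcomm := plane_commute (π := πb) (lift_faith π) hU2 hno hgen
    (x := hbar) (y := hbar')
    (by rw [← QuotientGroup.mk_pow, show (⟨h, hhL⟩ : L) ^ 5 = 1 from Subtype.ext h5]; rfl)
    (by rw [← QuotientGroup.mk_pow, show (⟨h', hh'L⟩ : L) ^ 5 = 1 from Subtype.ext hpow5]; rfl)
    (by rw [show πb hbar = _ from hπb _, show πb hbar' = _ from hπb _, hdet _ b hb hZ hlh, hdet _ b' hb' hh'Z hlh'])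
    (by
      rw [show πb hbar = _ from hπb _, hdet _ b hb hZ hlh]
      intro h1
      exact haa' (eq_of_div_eq_one h1).symm)
  apply hg
  have hπc : π ((⟨h', hh'L⟩ : L) * ⟨h, hhL⟩) = π (⟨h, hhL⟩ * ⟨h', hh'L⟩) := by
    have := congrArg πb hcomm
    rw [← QuotientGroup.mk_mul, ← QuotientGroup.mk_mul, hπb, hπb] at this
    exact this.symm
  refine eq_one_of_eq hf (LinearMap.ext fun w => ?_)
  obtain ⟨s, u, rfl⟩ := hdecomp w
  have hl : lam ((⟨h', hh'L⟩ : L) * ⟨h, hhL⟩) = lam (⟨h, hhL⟩ * ⟨h', hh'L⟩) := by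
    rw [hlammul, hlammul, mul_comm]
  have hu := congrArg Subtype.val (LinearMap.congr_fun hπc u)
  rw [hπ, hπ, hl] at hu
  have hu' := smul_right_injective (Fin 3 → ℂ) (inv_ne_zero (hlam0 _)) hu
  have hv' := (hlam ((⟨h', hh'L⟩ : L) * ⟨h, hhL⟩)).trans
    ((congrArg (· • v) hl).trans (hlam (⟨h, hhL⟩ * ⟨h', hh'L⟩)).symm)
  simp only [Subgroup.coe_mul] at hu' hv'
  rw [map_add, map_add, map_smul, map_smul, hu', hv']

end Three

/-- **Degree three at five.** -/
theorem five_reduced {G : Type u} [Group G] [Finite G] (p : ℕ) [Fact p.Prime] (hp : p = 5)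
    (P : Sylow p G) (hnn : ¬ (P : Subgroup G).Normal) (χ : G → ℂ) (hχ : Cfsg.IsIrrCharacter G χ)
    (hfaith : ∀ g : G, χ g = χ 1 → g = 1) (hdeg : H12.degree χ = 3)
    (hZ : (P : Subgroup G) ⊓ Subgroup.center G = ⊥) : Nat.card P = p := by
  classical
  subst hp
  letI : Fintype G := Fintype.ofFinite G
  obtain ⟨n, ρ, hρ, rfl⟩ := hχ
  haveI := hρ
  rw [H12.degree_character, finrank_fin_fun] at hdeg
  subst hdeg
  have hf : ∀ g, ρ g = 1 → g = 1 := fun g hg => hfaith g (by
    simp [Representation.character, hg])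
  have hopen : Open3 ρ := fun s b μ i0 hs hb hμ hclose =>
    hnn (normal_of_close (by norm_num) ρ hf P s hs b μ hb hμ i0 hclose)
  have hnotZ : ∀ x ∈ (P : Subgroup G), x ≠ 1 → x ∉ Subgroup.center G := fun x hx hx1 hc =>
    hx1 (Subgroup.mem_bot.1 (hZ ▸ Subgroup.mem_inf.2 ⟨hx, hc⟩))
  have hexp : ∀ x ∈ (P : Subgroup G), x ^ 5 = 1 := by
    intro x hx
    obtain ⟨k, hk⟩ := isPel_of_mem P.isPGroup' hx
    by_contra h1
    -- reduce to an element of order twenty-five
    obtain ⟨l, -, hl⟩ := (Nat.dvd_prime_pow (by norm_num : Nat.Prime 5)).1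
      (orderOf_dvd_of_pow_eq_one hk)
    have hl2 : 2 ≤ l := by
      by_contra hl2
      push Not at hl2
      refine h1 (orderOf_dvd_iff_pow_eq_one.1 ?_)
      rw [hl]
      exact pow_dvd_pow 5 (by omega : l ≤ 1)
    refine false_of_order_sq ρ hf hopen (x ^ 5 ^ (l - 2)) ?_ ?_
    · rw [← pow_mul, show 5 ^ (l - 2) * 25 = 5 ^ l by
        rw [show (25 : ℕ) = 5 ^ 2 by norm_num, ← pow_add, Nat.sub_add_cancel hl2], ← hl,
        pow_orderOf_eq_one]
    · refine hnotZ _ (pow_mem (pow_mem hx _) _) fun h2 => ?_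
      rw [← pow_mul, ← pow_succ] at h2
      have h3 := orderOf_dvd_of_pow_eq_one h2
      rw [hl, Nat.pow_dvd_pow_iff_le_right (by norm_num : 1 < 5)] at h3
      omega
  by_contra hne
  have hP1 : Nat.card (P : Subgroup G) ≠ 1 := fun h => hnn (by
    rw [Subgroup.card_eq_one.1 h]; infer_instance)
  obtain ⟨e, he⟩ := IsPGroup.iff_card.1 P.isPGroup'
  have hbig : 5 < Nat.card (P : Subgroup G) := by
    have he0 : e ≠ 0 := fun h => hP1 (by rw [he, h, pow_zero])
    have he1 : e ≠ 1 := fun h => hne (by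
      show Nat.card (P : Subgroup G) = 5
      rw [he, h, pow_one])
    calc 5 < 5 ^ 2 := by norm_num
      _ ≤ 5 ^ e := Nat.pow_le_pow_right (by norm_num) (by omega)
      _ = _ := he.symm
  obtain ⟨h, hh, hh1, b, μ, hb, i, j, hij, hμij⟩ := exists_repeated ρ P
    (H14.SmallDegree.sylow_comm P (H12.isCharacter_character ρ) hfaith
      (n := 3) (by rw [Representation.char_one, finrank_fin_fun]) (by norm_num)) hexp hbig
  exact false_of_homology (by norm_num) ρ hf hopen P hnn h (hexp h hh) (hnotZ h hh hh1) b μ hb hij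
    hμij

end H44.SmallPrime
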