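import Mathlib

/-!
Roots of unity within sixty degrees of one, and diagonal operators.
-/

set_option autoImplicit false

namespace H44.SmallPrime

open Module

theorem norm_exp_sub_one_lt {θ : ℝ} (h : |θ| < Real.pi / 3) :
    ‖Complex.exp (θ * Complex.I) - 1‖ < 1 := by
  have hpi := Real.pi_pos
  have hcos : 1 / 2 < Real.cos θ := by
    rw [← Real.cos_pi_div_three, ← Real.cos_abs θ]
    exact Real.cos_lt_cos_of_nonneg_of_le_pi (abs_nonneg _) (by linarith) h
  have h2 : ‖Complex.exp (θ * Complex.I) - 1‖ ^ 2 < 1 := by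
    have hre : (Complex.exp (θ * Complex.I) - 1).re = Real.cos θ - 1 := by
      simp [Complex.exp_ofReal_mul_I_re]
    have him : (Complex.exp (θ * Complex.I) - 1).im = Real.sin θ := by
      simp [Complex.exp_ofReal_mul_I_im]
    rw [← Complex.normSq_eq_norm_sq, Complex.normSq_apply, hre, him]
    nlinarith [Real.sin_sq_add_cos_sq θ]
  nlinarith [norm_nonneg (Complex.exp (θ * Complex.I) - 1)]

theorem rootExp_pow_near {n : ℕ} (hn : 0 < n) {d : ℤ} (hd : 6 * |d| < n) :
    ‖Complex.exp (2 * Real.pi * Complex.I / n) ^ d - 1‖ < 1 := by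
  rw [← Complex.exp_int_mul,
    show (d : ℂ) * (2 * Real.pi * Complex.I / n) = ((d * (2 * Real.pi / n) : ℝ) : ℂ) * Complex.I by
      push_cast; ring]
  refine norm_exp_sub_one_lt ?_
  have hn' : (0 : ℝ) < n := by exact_mod_cast hn
  have hd' : (6 : ℝ) * |(d : ℝ)| < n := by exact_mod_cast hd
  rw [abs_mul, abs_of_pos (show (0 : ℝ) < 2 * Real.pi / n by positivity),
    ← mul_div_assoc, div_lt_iff₀ hn']
  nlinarith [Real.pi_pos]

variable {V : Type*} [AddCommGroup V] [Module ℂ V] {ι : Type*} [Fintype ι]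

theorem trace_of_eigen (b : Basis ι ℂ V) (T : Module.End ℂ V) (μ : ι → ℂ)
    (h : ∀ i, T (b i) = μ i • b i) : LinearMap.trace ℂ V T = ∑ i, μ i := by
  classical
  rw [LinearMap.trace_eq_matrix_trace ℂ b]
  simp [Matrix.trace, LinearMap.toMatrix_apply, h]

theorem det_of_eigen (b : Basis ι ℂ V) (T : Module.End ℂ V) (μ : ι → ℂ)
    (h : ∀ i, T (b i) = μ i • b i) : LinearMap.det T = ∏ i, μ i := by
  classical
  rw [← LinearMap.det_toMatrix b,
    show LinearMap.toMatrix b b T = Matrix.diagonal μ from Matrix.ext fun i j => by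
      by_cases hij : i = j
      · subst hij; simp [LinearMap.toMatrix_apply, h]
      · simp [LinearMap.toMatrix_apply, h, hij, Finsupp.single_eq_of_ne hij],
    Matrix.det_diagonal]

theorem eigen_mem (b : Basis ι ℂ V) (T : Module.End ℂ V) (μ : ι → ℂ)
    (h : ∀ i, T (b i) = μ i • b i) {c : ℂ} {v : V} (hv : v ≠ 0) (hc : T v = c • v) :
    ∃ i, μ i = c := by
  classical
  obtain ⟨i, hi⟩ : ∃ i, b.repr v i ≠ 0 := by
    by_contra hno
    push Not at hno
    exact hv (b.repr.map_eq_zero_iff.1 (Finsupp.ext hno))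
  refine ⟨i, ?_⟩
  have h2 : T v = ∑ k, (b.repr v k * μ k) • b k := by
    conv_lhs => rw [← b.sum_repr v]
    rw [map_sum]
    exact Finset.sum_congr rfl fun k _ => by rw [map_smul, h, smul_smul]
  have h3 := congrArg (fun w => b.repr w i) (hc.symm.trans h2)
  simp only [map_smul, Finsupp.smul_apply, smul_eq_mul, b.repr_sum_self] at h3
  exact mul_left_cancel₀ hi (h3.symm.trans (mul_comm _ _))

end H44.SmallPrime
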