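import Cfsg.Agent.H17.Blichfeldt
import Cfsg.Agent.H28.SmallDeg.RepTools

/-!
Blichfeldt's sixty degree lemma without simplicity, and its consequence in degree three.
-/

set_option autoImplicit false
set_option linter.unusedSectionVars false
set_option linter.style.haveILetI false

namespace H44.SmallPrime

open Finset Module H17.Blichfeldt H28.SmallDeg
open scoped ComplexConjugate InnerProductSpace

universe u

variable {G : Type u} [Group G] [Fintype G] {n : ℕ}

/-- If the eigenvalues of a non-central element all lie within sixty degrees of the eigenvalue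
`lam`, all its conjugates leave the eigenspace of `lam` invariant. -/
theorem conj_invariant_of_close (ρ : Representation ℂ G (Fin n → ℂ)) 
    (s : G) (b : Basis (Fin (finrank ℂ (Fin n → ℂ))) ℂ (Fin n → ℂ))
    (μ : Fin (finrank ℂ (Fin n → ℂ)) → ℂ) (hb : ∀ i, ρ s (b i) = μ i • b i)
    (hμ : ∀ i, μ i ^ orderOf s = 1) (i0 : Fin (finrank ℂ (Fin n → ℂ)))
    (hclose : ∀ i, ‖μ i - μ i0‖ < 1) :
    ∀ g : G, ∀ v, ρ s v = μ i0 • v →
      ρ s (ρ (g * s * g⁻¹) v) = μ i0 • ρ (g * s * g⁻¹) v := by
  classical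
  set lam := μ i0 with hlam
  set V := Fin n → ℂ
  have hlamnorm : ‖lam‖ = 1 := H12.norm_eq_one_of_pow_eq_one (orderOf_pos s).ne' (hμ i0)
  have hlam0 : lam ≠ 0 := fun h => by rw [h, norm_zero] at hlamnorm; exact zero_ne_one hlamnorm
  obtain ⟨a, ha0, ha1, ha⟩ : ∃ a : ℝ, 0 ≤ a ∧ a < 1 ∧ ∀ i, ‖μ i - lam‖ ≤ a := by
    have hne : (univ : Finset (Fin (finrank ℂ V))).Nonempty := ⟨i0, mem_univ _⟩
    obtain ⟨i, -, hi⟩ := exists_max_image univ (fun i => ‖μ i - lam‖) hne
    exact ⟨_, norm_nonneg _, hclose i, fun j => hi j (mem_univ j)⟩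
  -- the contraction
  have hcontr : ∀ v : V, ‖avgEmb ρ (ρ s v - lam • v)‖ ≤ a * ‖avgEmb ρ v‖ := by
    intro v
    let t : Finset ℂ := univ.image μ
    let c := b.repr v
    let part : ℂ → V := fun z => ∑ i ∈ univ.filter (fun i => μ i = z), c i • b i
    have hv : v = ∑ z ∈ t, part z := by
      rw [sum_fiberwise_of_maps_to (fun i _ => mem_image_of_mem _ (mem_univ i))]
      exact (b.sum_repr v).symm
    have hpart : ∀ z, ρ s (part z) = z • part z := fun z => by
      simp only [part, map_sum, map_smul, smul_sum, hb]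
      refine sum_congr rfl fun i hi => ?_
      rw [(mem_filter.1 hi).2, smul_comm]
    have hz : ∀ z ∈ t, z ^ orderOf s = 1 ∧ ‖z - lam‖ ≤ a := fun z hz => by
      obtain ⟨i, -, rfl⟩ := mem_image.1 hz; exact ⟨hμ i, ha i⟩
    have horth : ∀ z ∈ t, ∀ w ∈ t, z ≠ w → ⟪avgEmb ρ (part z), avgEmb ρ (part w)⟫_ℂ = 0 :=
      fun z hz' w _ hne => inner_eq_zero_of_eigen ρ s (hz z hz').1 (hpart z) (hpart w) hne
    have hsq : ∀ X : EuclideanSpace ℂ (G × Fin n), ((‖X‖ : ℝ) : ℂ) ^ 2 = ⟪X, X⟫_ℂ := fun X =>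
      (inner_self_eq_norm_sq_to_K X).symm
    have key : ∀ f : ℂ → ℂ, ‖∑ z ∈ t, f z • avgEmb ρ (part z)‖ ^ 2 =
        ∑ z ∈ t, ‖f z‖ ^ 2 * ‖avgEmb ρ (part z)‖ ^ 2 := by
      intro f
      have hC : ((‖∑ z ∈ t, f z • avgEmb ρ (part z)‖ ^ 2 : ℝ) : ℂ) =
          ((∑ z ∈ t, ‖f z‖ ^ 2 * ‖avgEmb ρ (part z)‖ ^ 2 : ℝ) : ℂ) := by
        push_cast
        rw [hsq, sum_inner]
        refine sum_congr rfl fun z hz' => ?_
        rw [inner_sum, sum_eq_single z (fun w hw hne => by
          rw [inner_smul_left, inner_smul_right, horth z hz' w hw hne.symm, mul_zero, mul_zero])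
          (fun h => absurd hz' h), inner_smul_left, inner_smul_right, ← hsq,
          ← mul_assoc, Complex.conj_mul']
      exact_mod_cast hC
    have h1 := key (fun z => z - lam)
    have h2 := key (fun _ => 1)
    have e1 : avgEmb ρ (ρ s v - lam • v) = ∑ z ∈ t, (z - lam) • avgEmb ρ (part z) := by
      conv_lhs => rw [hv]
      simp only [map_sum, map_sub, map_smul, smul_sum, hpart, sub_smul, sum_sub_distrib]
    have e2 : avgEmb ρ v = ∑ z ∈ t, (1 : ℂ) • avgEmb ρ (part z) := by
      conv_lhs => rw [hv]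
      simp only [map_sum, one_smul]
    rw [← e1] at h1
    rw [← e2] at h2
    refine (pow_le_pow_iff_left₀ (norm_nonneg _) (mul_nonneg ha0 (norm_nonneg _)) two_ne_zero).1 ?_
    rw [h1, mul_pow, h2, mul_sum]
    refine sum_le_sum fun z hz' => ?_
    simp only [norm_one, one_pow, one_mul]
    exact mul_le_mul_of_nonneg_right (pow_le_pow_left₀ (norm_nonneg _) (hz z hz').2 2) (sq_nonneg _)
  -- the fixed space
  let V1 : Submodule ℂ V := Module.End.eigenspace (ρ s) lam
  have hV1 : ∀ v, v ∈ V1 ↔ ρ s v = lam • v := fun v => Module.End.mem_eigenspace_iff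
  let W : G → G := fun g => g⁻¹ * s⁻¹ * g * s
  have hWstep : ∀ (g : G) (v : V), v ∈ V1 → ρ (W g) v - v =
      ρ g⁻¹ (ρ s⁻¹ (lam • ρ g v - ρ s (ρ g v))) := by
    intro g v hv
    rw [map_sub, map_sub, map_smul, map_smul]
    simp only [W, map_mul, Module.End.mul_apply]
    rw [(hV1 v).1 hv, map_smul, map_smul, map_smul]
    congr 1
    rw [← Module.End.mul_apply (ρ s⁻¹) (ρ s), ← map_mul, inv_mul_cancel, map_one,
      Module.End.one_apply, ← Module.End.mul_apply (ρ g⁻¹), ← map_mul, inv_mul_cancel, map_one,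
      Module.End.one_apply]
  have hWnorm : ∀ (g : G) (v : V), v ∈ V1 →
      ‖avgEmb ρ (ρ (W g) v - v)‖ = ‖avgEmb ρ (ρ s (ρ g v) - lam • ρ g v)‖ := by
    intro g v hv
    rw [hWstep g v hv, norm_avgEmb_rep, norm_avgEmb_rep, ← norm_neg, ← map_neg, neg_sub]
  have hdecay : ∀ (k : ℕ) (g : G) (v : V), v ∈ V1 →
      ‖avgEmb ρ (ρ s (ρ (W^[k] g) v) - lam • ρ (W^[k] g) v)‖ ≤ a ^ (k + 1) * ‖avgEmb ρ v‖ := by
    intro k
    induction k with
    | zero =>
      intro g v _
      simpa [norm_avgEmb_rep] using hcontr (ρ g v)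
    | succ k ih =>
      intro g v hv
      rw [Function.iterate_succ_apply']
      set h := W^[k] g
      have e : ρ s (ρ (W h) v) - lam • ρ (W h) v =
          ρ s (ρ (W h) v - v) - lam • (ρ (W h) v - v) := by
        rw [map_sub, smul_sub, (hV1 v).1 hv]; abel
      rw [e]
      refine (hcontr _).trans ?_
      rw [hWnorm h v hv, pow_succ' a (k + 1), mul_assoc]
      exact mul_le_mul_of_nonneg_left (ih g v hv) ha0
  have hpres : ∀ g : G, ∀ v ∈ V1, ρ (W g) v ∈ V1 := by
    intro g
    -- downward induction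
    have hstep : ∀ k : ℕ, (∀ v ∈ V1, ρ (W^[k + 2] g) v ∈ V1) → ∀ v ∈ V1, ρ (W^[k + 1] g) v ∈ V1 := by
      intro k hk v hv
      set h := W^[k + 1] g with hh
      have hWh : ρ (W h) v ∈ V1 := by
        rw [hh, ← Function.iterate_succ_apply' W (k + 1) g]; exact hk v hv
      let u := ρ (W h) v - v
      have hu : u ∈ V1 := V1.sub_mem hWh hv
      have hgu : ρ h u = ρ s⁻¹ (lam • ρ h v - ρ s (ρ h v)) := by
        simp only [u]
        rw [hWstep h v hv, ← Module.End.mul_apply, ← map_mul, mul_inv_cancel, map_one,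
          Module.End.one_apply]
      have hperp : ⟪avgEmb ρ (ρ h u), avgEmb ρ u⟫_ℂ = 0 := by
        rw [← inner_avgEmb_rep ρ s, hgu, ← Module.End.mul_apply (ρ s) (ρ s⁻¹), ← map_mul,
          mul_inv_cancel, map_one, Module.End.one_apply, (hV1 u).1 hu, map_sub, inner_sub_left,
          map_smul, map_smul, inner_smul_left, inner_smul_right]
        have h2 := inner_avgEmb_rep ρ s (ρ h v) u
        rw [(hV1 u).1 hu, map_smul, inner_smul_right] at h2
        rw [inner_smul_right, h2, ← mul_assoc, Complex.conj_mul', hlamnorm]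
        simp
      have hsmall : ‖avgEmb ρ (ρ h u - u)‖ ≤ a ^ (k + 1) * ‖avgEmb ρ u‖ := by
        rw [hh, Function.iterate_succ_apply', hWnorm _ u hu]
        exact hdecay k g u hu
      have hpy : ‖avgEmb ρ (ρ h u - u)‖ ^ 2 = 2 * ‖avgEmb ρ u‖ ^ 2 := by
        rw [map_sub, @norm_sub_sq ℂ, hperp, norm_avgEmb_rep]
        simp; ring
      have hak : a ^ (k + 1) ≤ 1 := pow_le_one₀ ha0 ha1.le
      have hu0 : ‖avgEmb ρ u‖ = 0 := by
        have h1 : ‖avgEmb ρ (ρ h u - u)‖ ≤ ‖avgEmb ρ u‖ :=
          hsmall.trans (mul_le_of_le_one_left (norm_nonneg _) hak)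
        have h2 := pow_le_pow_left₀ (norm_nonneg _) h1 2
        rw [hpy] at h2
        nlinarith [norm_nonneg (avgEmb ρ u)]
      have hzero : ρ s (ρ h v) - lam • ρ h v = 0 := by
        refine avgEmb_injective ρ ?_
        rw [map_zero, ← norm_eq_zero, ← hWnorm h v hv]
        exact hu0
      exact (hV1 _).2 (sub_eq_zero.1 hzero)
    obtain ⟨k, l, hkl, he⟩ : ∃ k l : ℕ, k < l ∧ W^[k + 1] g = W^[l + 1] g := by
      obtain ⟨x, y, hxy, he⟩ := Finite.exists_ne_map_eq_of_infinite (fun k : ℕ => W^[k + 1] g)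
      rcases lt_or_gt_of_ne hxy with h | h
      · exact ⟨x, y, h, he⟩
      · exact ⟨y, x, h, he.symm⟩
    have hper : ∀ t : ℕ, W^[k + 1 + t * (l - k)] g = W^[k + 1] g := by
      intro t
      induction t with
      | zero => simp
      | succ t ih =>
        rw [show k + 1 + (t + 1) * (l - k) = (l - k) + (k + 1 + t * (l - k)) by ring,
          Function.iterate_add_apply, ih, ← Function.iterate_add_apply,
          show l - k + (k + 1) = l + 1 by omega]
        exact he.symm
    have hbase : ∀ v ∈ V1, ρ (W^[k + 1] g) v ∈ V1 := by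
      intro v hv
      refine (hV1 _).2 (sub_eq_zero.1 (avgEmb_injective ρ ?_))
      rw [map_zero, ← norm_eq_zero]
      refine le_antisymm (le_of_forall_pos_le_add fun ε hε => ?_) (norm_nonneg _)
      obtain ⟨t, ht⟩ := exists_pow_lt_of_lt_one (div_pos hε (by positivity : (0:ℝ) < ‖avgEmb ρ v‖ + 1)) ha1
      have hle := hdecay (k + 1 + t * (l - k)) g v hv
      rw [hper] at hle
      rw [zero_add]
      refine hle.trans ?_
      have hpow : a ^ (k + 1 + t * (l - k) + 1) ≤ a ^ t :=
        pow_le_pow_of_le_one ha0 ha1.le (by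
          have := Nat.le_mul_of_pos_right t (show 0 < l - k by omega)
          omega)
      rw [lt_div_iff₀ (by positivity)] at ht
      nlinarith [norm_nonneg (avgEmb ρ v), pow_nonneg ha0 t,
        mul_le_mul_of_nonneg_right hpow (norm_nonneg (avgEmb ρ v))]
    have hdown : ∀ j, ∀ v ∈ V1, ρ (W^[k + 1 - j] g) v ∈ V1 ∨ k + 1 ≤ j := by
      intro j
      induction j with
      | zero => exact fun v hv => Or.inl (hbase v hv)
      | succ j ih =>
        intro v hv
        by_cases hj : k + 1 ≤ j + 1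
        · exact Or.inr hj
        push Not at hj
        obtain ⟨i, hi⟩ : ∃ i, k + 1 - (j + 1) = i + 1 := ⟨k - (j + 1), by omega⟩
        rw [hi]
        refine Or.inl (hstep i (fun w hw => ?_) v hv)
        rcases ih w hw with h | h
        · rwa [show k + 1 - j = i + 2 by omega] at h
        · omega
    intro v hv
    have := (hdown k v hv).resolve_right (by omega)
    rwa [show k + 1 - k = 1 by omega, Function.iterate_one] at this
  let K : Subgroup G :=
    { carrier := {g | ∀ v ∈ V1, ρ g v ∈ V1}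
      mul_mem' := fun {x y} hx hy v hv => by
        rw [map_mul, Module.End.mul_apply]; exact hx _ (hy v hv)
      one_mem' := fun v hv => by rw [map_one, Module.End.one_apply]; exact hv
      inv_mem' := fun {x} hx => by
        have hpow : ∀ j : ℕ, ∀ v ∈ V1, ρ (x ^ j) v ∈ V1 := by
          intro j
          induction j with
          | zero => exact fun v hv => by rw [pow_zero, map_one, Module.End.one_apply]; exact hv
          | succ j ih =>
            intro v hv
            rw [pow_succ', map_mul, Module.End.mul_apply]; exact hx _ (ih v hv)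
        have hx' : x⁻¹ = x ^ (orderOf x - 1) := inv_eq_of_mul_eq_one_right (by
          rw [← pow_succ', Nat.sub_add_cancel (orderOf_pos x), pow_orderOf_eq_one])
        show ∀ v ∈ V1, ρ x⁻¹ v ∈ V1
        rw [hx']; exact hpow _ }
  have hsK : s ∈ K := fun v hv => by rw [(hV1 v).1 hv]; exact V1.smul_mem _ hv
  have hconjK : ∀ g : G, g * s * g⁻¹ ∈ K := fun g => by
    have h := K.mul_mem (show W g⁻¹ ∈ K from hpres g⁻¹) (inv_mem hsK)
    have := inv_mem h
    simpa [W, mul_assoc] using this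
  exact fun g v hv => (hV1 _).1 (hconjK g v ((hV1 v).2 hv))

variable {p : ℕ} [hp : Fact p.Prime]

/-- An abelian normal subgroup outside the centre makes a group of degree three monomial, so its
Sylow subgroup for a prime above three is normal. -/
theorem normal_of_abelian_normal (hp3 : 3 < p) (ρ : Representation ℂ G (Fin 3 → ℂ))
    [ρ.IsIrreducible] (hf : ∀ g, ρ g = 1 → g = 1) (N : Subgroup G) [N.Normal]
    {v : Fin 3 → ℂ} (hv : v ≠ 0) (hline : ∀ a ∈ N, ∃ c : ℂ, ρ a v = c • v)
    {a : G} (ha : a ∈ N) (haZ : a ∉ Subgroup.center G) (P : Sylow p G) :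
    (P : Subgroup G).Normal := by
  classical
  choose θ hθ using hline
  -- the translates of `v`
  have hinj : ∀ g : G, Function.Injective (ρ g) := fun g =>
    Function.LeftInverse.injective (g := ρ g⁻¹) fun w => by
      rw [← Module.End.mul_apply, ← map_mul, inv_mul_cancel, map_one, Module.End.one_apply]
  let wt : G → N → ℂ := fun g b => θ (g⁻¹ * b * g)
    (by simpa using Subgroup.Normal.conj_mem inferInstance (b : G) b.2 g⁻¹)
  have hwt : ∀ (g : G) (b : N), ρ b (ρ g v) = wt g b • ρ g v := fun g b => by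
    rw [← map_smul, ← hθ _ _, ← Module.End.mul_apply, ← Module.End.mul_apply, ← map_mul, ← map_mul]
    congr 2
    group
  -- the weight spaces
  let Wsp : (N → ℂ) → Submodule ℂ (Fin 3 → ℂ) := fun φ => ⨅ b : N, eig ρ (b : G) (φ b)
  have hW : ∀ φ w, w ∈ Wsp φ ↔ ∀ b : N, ρ b w = φ b • w := fun φ w => by
    simp only [Wsp, Submodule.mem_iInf, mem_eig]
  have hspan : Submodule.span ℂ (Set.range fun g : G => ρ g v) = ⊤ := by
    refine (irr_cases ρ fun g w hw => ?_).resolve_left fun h => ?_
    · induction hw using Submodule.span_induction with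
      | mem w hw =>
        obtain ⟨k, rfl⟩ := hw
        exact Submodule.subset_span ⟨g * k, by simp [map_mul]⟩
      | zero => rw [map_zero]; exact Submodule.zero_mem _
      | add w z _ _ hw hz => rw [map_add]; exact Submodule.add_mem _ hw hz
      | smul c w _ hw => rw [map_smul]; exact Submodule.smul_mem _ c hw
    · refine hv ?_
      have h1 : ρ 1 v ∈ Submodule.span ℂ (Set.range fun g : G => ρ g v) :=
        Submodule.subset_span ⟨1, rfl⟩
      rwa [h, Submodule.mem_bot, map_one, Module.End.one_apply] at h1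
  -- weight spaces are lines
  have hline' : ∀ g : G, finrank ℂ (Wsp (wt g)) ≤ 1 := by
    intro g
    by_contra hg
    push Not at hg
    refine haZ (mem_center_of_scalar hf (c := wt g ⟨a, ha⟩) fun w => ?_)
    have hall : ∀ k : G, wt k = wt g := by
      intro k
      have hmap : (Wsp (wt g)).map (ρ (k * g⁻¹)) ≤ Wsp (wt k) := by
        rintro _ ⟨w, hw, rfl⟩
        refine (hW _ _).2 fun b => ?_
        let b' : N := ⟨(k * g⁻¹)⁻¹ * b * (k * g⁻¹), by
          simpa using Subgroup.Normal.conj_mem inferInstance (b : G) b.2 (k * g⁻¹)⁻¹⟩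
        have hb : wt g b' = wt k b := by
          simp only [wt, b']
          congr 1
          group
        rw [← hb, ← map_smul, ← (hW _ _).1 hw b', ← Module.End.mul_apply, ← Module.End.mul_apply,
          ← map_mul, ← map_mul]
        congr 2
        show (b : G) * (k * g⁻¹) = k * g⁻¹ * ((k * g⁻¹)⁻¹ * b * (k * g⁻¹))
        group
      have h1 := finrank_inf_ge (Wsp (wt k)) (Wsp (wt g))
      have h2 := Submodule.finrank_mono hmap
      rw [← (Submodule.equivMapOfInjective _ (hinj _) _).finrank_eq] at h2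
      rw [finrank_fin_fun] at h1
      obtain ⟨w, hw, hw0⟩ := Submodule.exists_mem_ne_zero_of_ne_bot
        (p := Wsp (wt k) ⊓ Wsp (wt g)) fun h => by rw [h, finrank_bot] at h1; omega
      funext b
      exact smul_left_injective ℂ hw0 (((hW _ _).1 hw.1 b).symm.trans ((hW _ _).1 hw.2 b))
    have htop : Submodule.span ℂ (Set.range fun k : G => ρ k v) ≤ eig ρ a (wt g ⟨a, ha⟩) := by
      rw [Submodule.span_le]
      rintro _ ⟨k, rfl⟩
      exact mem_eig.2 ((hwt k ⟨a, ha⟩).trans (by rw [hall k]))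
    rw [hspan] at htop
    exact mem_eig.1 (htop trivial)
  obtain ⟨t, ht, htspan, htind⟩ := exists_linearIndependent ℂ (Set.range fun g : G => ρ g v)
  rw [hspan] at htspan
  let B : Basis t ℂ (Fin 3 → ℂ) := Basis.mk htind (by
    simp only [Subtype.range_coe_subtype, Set.setOf_mem_eq]; exact htspan.ge)
  haveI : Fintype t := FiniteDimensional.fintypeBasisIndex B
  have hBt : ∀ i : t, B i = (i : Fin 3 → ℂ) := fun i => Basis.mk_apply _ _ _
  have htc : Nat.card t = 3 := by
    rw [Nat.card_eq_fintype_card, ← finrank_eq_card_basis B, finrank_fin_fun]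
  choose γ hγ using fun i : t => ht i.2
  have hγB : ∀ i, ρ (γ i) v = B i := fun i => (hγ i).trans (hBt i).symm
  have hex : ∀ (x : G) (i : t), ∃ j : t, ∃ c : ℂ, ρ x (B i) = c • B j := by
    intro x i
    have hx : ρ x (B i) = ρ (x * γ i) v := by rw [← hγB, map_mul]; rfl
    obtain ⟨j, hj⟩ : ∃ j, B.repr (ρ x (B i)) j ≠ 0 := by
      by_contra hno
      push Not at hno
      have h0 : B.repr (ρ x (B i)) = 0 := Finsupp.ext hno
      exact B.ne_zero i (hinj x (by rw [map_zero]; exact B.repr.map_eq_zero_iff.1 h0))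
    have hweq : wt (γ j) = wt (x * γ i) := by
      funext b
      have h1 : ρ b (ρ x (B i)) = wt (x * γ i) b • ρ x (B i) := by rw [hx]; exact hwt _ b
      have h2 : ρ b (ρ x (B i)) =
          ∑ k, (B.repr (ρ x (B i)) k * wt (γ k) b) • B k := by
        conv_lhs => rw [← B.sum_repr (ρ x (B i))]
        rw [map_sum]
        refine Finset.sum_congr rfl fun k _ => ?_
        rw [map_smul, ← hγB k, hwt, smul_smul]
      have h3 := congrArg (fun w => B.repr w j) (h1.symm.trans h2)
      simp only [map_smul, Finsupp.smul_apply, smul_eq_mul, B.repr_sum_self] at h3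
      exact mul_left_cancel₀ hj (h3.symm.trans (mul_comm _ _))
    have hmj : B j ∈ Wsp (wt (γ j)) := (hW _ _).2 fun b => by rw [← hγB]; exact hwt _ b
    have hmx : ρ x (B i) ∈ Wsp (wt (γ j)) :=
      (hW _ _).2 fun b => by rw [hweq, hx]; exact hwt _ b
    obtain ⟨w0, hw0⟩ := finrank_le_one_iff.1 (hline' (γ j))
    obtain ⟨c, hc⟩ := hw0 ⟨_, hmx⟩
    obtain ⟨c', hc'⟩ := hw0 ⟨_, hmj⟩
    have hc1 : c' • (w0 : Fin 3 → ℂ) = B j := congrArg Subtype.val hc'
    have hc2 : c • (w0 : Fin 3 → ℂ) = ρ x (B i) := congrArg Subtype.val hc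
    have hc0 : c' ≠ 0 := fun h => B.ne_zero j (by rw [← hc1, h, zero_smul])
    exact ⟨j, c * c'⁻¹, by rw [← hc1, smul_smul, mul_assoc, inv_mul_cancel₀ hc0, mul_one, hc2]⟩
  choose f c hfc using hex
  have huniq : ∀ {j k : t} {a b : ℂ}, a • B j = b • B k → a ≠ 0 → j = k := by
    intro j k a b h ha
    by_contra hjk
    have h' := congrArg (fun w => B.repr w j) h
    simp [Finsupp.single_eq_of_ne hjk] at h'
    exact ha h'
  have hc0 : ∀ x i, c x i ≠ 0 := fun x i h => B.ne_zero i
    (hinj x (by rw [hfc, h, zero_smul, map_zero]))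
  have hmul : ∀ x y i, f (x * y) i = f x (f y i) := fun x y i => by
    refine huniq (a := c (x * y) i) (b := c y i * c x (f y i)) ?_ (hc0 _ _)
    rw [← hfc, map_mul, Module.End.mul_apply, hfc, map_smul, hfc, smul_smul]
  have hone : ∀ i, f 1 i = i := fun i => by
    refine huniq (a := c 1 i) (b := 1) ?_ (hc0 _ _)
    rw [← hfc, map_one, Module.End.one_apply, one_smul]
  let π : G →* Equiv.Perm t := MonoidHom.mk'
    (fun x => ⟨f x, f x⁻¹, fun i => by rw [← hmul, inv_mul_cancel, hone],
      fun i => by rw [← hmul, mul_inv_cancel, hone]⟩)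
    (fun x y => Equiv.ext fun i => hmul x y i)
  have hfix : ∀ x, IsPel p x → ∀ i, f x i = i := by
    intro x ⟨k, hk⟩ i
    have h1 : orderOf (π x) ∣ p ^ k := orderOf_dvd_of_pow_eq_one (by rw [← map_pow, hk, map_one])
    have h2 : orderOf (π x) ∣ Nat.factorial 3 := by
      have h := orderOf_dvd_natCard (π x)
      rwa [Nat.card_perm, htc] at h
    have h3 : orderOf (π x) = 1 := by
      refine Nat.eq_one_of_dvd_coprimes (Nat.Coprime.pow_left k ?_) h1 h2
      rw [hp.out.coprime_iff_not_dvd, Nat.Prime.dvd_factorial hp.out]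
      omega
    exact Equiv.ext_iff.1 (orderOf_eq_one_iff.1 h3) i
  have hcomm : ∀ x y : G, IsPel p x → IsPel p y → Commute x y := by
    intro x y hx hy
    refine eq_one_of_eq hf (a := x * y) (b := y * x) (B.ext fun i => ?_)
    simp only [map_mul, Module.End.mul_apply, hfc, map_smul, hfix x hx, hfix y hy]
    exact smul_comm _ _ _
  let Q : Subgroup G :=
    { carrier := {x | IsPel p x}
      mul_mem' := fun {x y} hx hy => by
        obtain ⟨i, hi⟩ := hx
        obtain ⟨j, hj⟩ := hy
        refine ⟨i + j, ?_⟩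
        rw [(hcomm x y ⟨i, hi⟩ ⟨j, hj⟩).mul_pow, pow_add, pow_mul, hi, one_pow, mul_comm (p ^ i),
          pow_mul, hj, one_pow, one_mul]
      one_mem' := ⟨0, one_pow _⟩
      inv_mem' := fun {x} hx => by
        obtain ⟨k, hk⟩ := hx
        exact ⟨k, by rw [inv_pow, hk, inv_one]⟩ }
  haveI : Q.Normal := ⟨fun x (hx : IsPel p x) g => hx.conj g⟩
  have hQ : IsPGroup p Q := fun x => by
    obtain ⟨k, hk⟩ := x.2
    exact ⟨k, Subtype.ext hk⟩
  exact normal_of_forall_mem fun x hx => le_sylow_of_normal hQ P hx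

/-- **Blichfeldt in degree three.** A non-central element with an eigenvalue within sixty degrees
of all the others forces a normal Sylow subgroup for every prime above three. -/
theorem normal_of_close (hp3 : 3 < p) (ρ : Representation ℂ G (Fin 3 → ℂ)) [ρ.IsIrreducible]
    (hf : ∀ g, ρ g = 1 → g = 1) (P : Sylow p G) (s : G) (hsZ : s ∉ Subgroup.center G)
    (b : Basis (Fin (finrank ℂ (Fin 3 → ℂ))) ℂ (Fin 3 → ℂ))
    (μ : Fin (finrank ℂ (Fin 3 → ℂ)) → ℂ) (hb : ∀ i, ρ s (b i) = μ i • b i)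
    (hμ : ∀ i, μ i ^ orderOf s = 1) (i0 : Fin (finrank ℂ (Fin 3 → ℂ)))
    (hclose : ∀ i, ‖μ i - μ i0‖ < 1) : (P : Subgroup G).Normal := by
  classical
  set N := Subgroup.normalClosure ({s} : Set G) with hN
  have hsN : s ∈ N := Subgroup.subset_normalClosure (Set.mem_singleton s)
  set E := eig ρ s (μ i0) with hE
  have hEinv : Inv (ρ.comp N.subtype) E := by
    rintro ⟨a, ha⟩
    show ∀ v ∈ E, ρ a v ∈ E
    induction ha using Subgroup.closure_induction'' with
    | mem x hx =>
      obtain ⟨y, hy, hc⟩ := Group.mem_conjugatesOfSet_iff.1 hx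
      rw [Set.mem_singleton_iff] at hy
      subst hy
      obtain ⟨g, rfl⟩ := isConj_iff.1 hc
      exact fun v hv => mem_eig.2 (conj_invariant_of_close ρ y b μ hb hμ i0 hclose g v (mem_eig.1 hv))
    | inv_mem x hx =>
      obtain ⟨y, hy, hc⟩ := Group.mem_conjugatesOfSet_iff.1 hx
      rw [Set.mem_singleton_iff] at hy
      subst hy
      obtain ⟨g, rfl⟩ := isConj_iff.1 hc
      intro v hv
      have hpow : ∀ j : ℕ, ρ ((g * y * g⁻¹) ^ j) v ∈ E := fun j => by
        induction j with
        | zero => simpa using hv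
        | succ j ih =>
          rw [pow_succ', map_mul, Module.End.mul_apply]
          exact mem_eig.2 (conj_invariant_of_close ρ y b μ hb hμ i0 hclose g _ (mem_eig.1 ih))
      have hinv : (g * y * g⁻¹)⁻¹ = (g * y * g⁻¹) ^ (orderOf (g * y * g⁻¹) - 1) :=
        inv_eq_of_mul_eq_one_right (by
          rw [← pow_succ', Nat.sub_add_cancel (orderOf_pos _), pow_orderOf_eq_one])
      rw [hinv]
      exact hpow _
    | one => intro v hv; simpa using hv
    | mul x y _ _ hx hy =>
      intro v hv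
      rw [map_mul, Module.End.mul_apply]
      exact hx _ (hy v hv)
  have hEbot : E ≠ ⊥ := fun h =>
    b.ne_zero i0 ((Submodule.eq_bot_iff _).1 h _ (mem_eig.2 (hb i0)))
  have hEtop : E ≠ ⊤ := fun h => hsZ (mem_center_of_eig_top hf h)
  obtain ⟨W, hW, hEW⟩ := exists_compl (ρ.comp N.subtype) hEinv
  have hadd := Submodule.finrank_add_eq_of_isCompl hEW
  rw [finrank_fin_fun] at hadd
  have hE0 : finrank ℂ E ≠ 0 := fun h => hEbot (Submodule.finrank_eq_zero.1 h)
  have hW0 : finrank ℂ W ≠ 0 := fun h => hEtop (by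
    have := hEW.sup_eq_top
    rwa [Submodule.finrank_eq_zero.1 h, sup_bot_eq] at this)
  obtain ⟨L, hL, hL1⟩ : ∃ L : Submodule ℂ (Fin 3 → ℂ), Inv (ρ.comp N.subtype) L ∧
      finrank ℂ L = 1 := by
    rcases Nat.lt_or_ge (finrank ℂ E) 2 with h | h
    · exact ⟨E, hEinv, by omega⟩
    · exact ⟨W, hW, by omega⟩
  obtain ⟨v, hv, hspan⟩ := finrank_eq_one_iff'.1 hL1
  refine normal_of_abelian_normal hp3 ρ hf N (v := (v : Fin 3 → ℂ)) (fun h => hv (Subtype.ext h))
    (fun a ha => ?_) hsN hsZ P
  obtain ⟨c, hc⟩ := hspan ⟨_, hL ⟨a, ha⟩ v v.2⟩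
  exact ⟨c, (congrArg Subtype.val hc).symm⟩

end H44.SmallPrime
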